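import Cfsg.Agent.H241.NHGenC
import Cfsg.Agent.SmallSimple.S1000.PSLFacts

/-!
# The theorem of Feit and Thompson (S3331) in the form `Three` (helper241)
-/

set_option autoImplicit false
open Subgroup

namespace Cfsg.Agent.H241.NH

universe u

theorem three_of (h : ∀ {G : Type u} [Group G] [Finite G] (X : Subgroup G), Nat.card X = 3 →
      Subgroup.centralizer (X : Set G) = X →
    (∃ (N : Subgroup G) (hN : N.Normal), Group.IsNilpotent N ∧ (Nat.card N).Coprime 3 ∧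
        (Nat.card (G ⧸ N) = 3 ∨ Nonempty (G ⧸ N ≃* Equiv.Perm (Fin 3)))) ∨
    (∃ (N : Subgroup G) (hN : N.Normal), IsMulCommutative N ∧ (∀ n ∈ N, n ^ 2 = 1) ∧
        Nonempty (G ⧸ N ≃* alternatingGroup (Fin 5))) ∨
    Nonempty (G ≃* Matrix.ProjectiveSpecialLinearGroup (Fin 2) (ZMod 7))) : Three.{u} := by
  intro K _ _ T hT hC
  rcases h T hT hC with ⟨N, hN, h1, -, h3⟩ | ⟨N, hN, -, h2, ⟨e⟩⟩ | ⟨⟨e⟩⟩
  · refine Or.inl ⟨N, hN, h1, ?_⟩
    rcases h3 with h3 | ⟨⟨e⟩⟩
    · exact Or.inl h3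
    · right
      rw [Nat.card_congr e.toEquiv, Nat.card_eq_fintype_card, Fintype.card_perm, Fintype.card_fin]
      rfl
  · refine Or.inr (Or.inl ⟨N, hN, h2, ?_⟩)
    rw [Nat.card_congr e.toEquiv]
    have h4 : 2 * Nat.card (alternatingGroup (Fin 5)) = 2 * 60 := by
      rw [Nat.card_eq_fintype_card, two_mul_card_alternatingGroup, Fintype.card_perm, Fintype.card_fin]
      rfl
    omega
  · right; right
    rw [Nat.card_congr e.toEquiv]
    have : Fact (Nat.Prime 7) := ⟨by norm_num⟩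
    exact Cfsg.Agent.SmallSimple.PSLFacts.card_psl_two_seven (ZMod.card 7)

end Cfsg.Agent.H241.NH
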