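import Cfsg.Agent.H241.NHMonA
import Cfsg.Agent.H241.NHMonB
import Cfsg.Agent.H353.NHFiTF
import Cfsg.Agent.H153.ZerosHe

/-!
# Row of the nilpotent Hall cluster: pairs of primes in the Monster (helper241)

* `card_seventeen` : `|C(y)|` divides `168 * 17`, `y` of order 17;
* `no_17_q`, `no_17_11`, `no_17_13`, `no_17_19`, `no_17_23`, `no_19_23`, `no_5_13`.
-/

set_option autoImplicit false
set_option maxRecDepth 100000
open Subgroup
open scoped Pointwise

namespace Cfsg.Agent.H241.Mon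

open Cfsg Cfsg.Agent.H630.NH Cfsg.Agent.H241.NH Cfsg.Agent.H393.Iso
open Cfsg.Agent.MonsterX Cfsg.Agent.MonsterX.InstData Cfsg.Agent.MonsterX.MainPack Cfsg.Agent.MonsterU
open Cfsg.Agent.MonsterX.MainBasic Cfsg.Agent.MonsterX.MainSimple Cfsg.Agent.MonsterX.Model
open Cfsg.Agent.LThreeMB (fr XX KChart.Cent KChart.pi KChart.chart)
open Cfsg.Agent.MonsterU.Ch
open Cfsg.Agent.Co2Type.Quad (Large)
open Cfsg.Spor (Co1)

universe u

/-! ### General lemmas -/

/-- a fixed point of `y` of prime order in an invariant set -/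
theorem exists_fixed {G : Type u} [Group G] [Finite G] {r : ℕ} (hr : r.Prime) {y : G} (hy : orderOf y = r) (S : Set G)
    (hS : ∀ s ∈ S, y * s * y⁻¹ ∈ S) (hn : ¬ r ∣ Nat.card S) : ∃ s ∈ S, y * s = s * y := by
  have hFr : Fact r.Prime := ⟨hr⟩
  have hpow : ∀ (n : ℕ), ∀ s ∈ S, y ^ n * s * (y ^ n)⁻¹ ∈ S := by
    intro n
    induction n with
    | zero => intro s hs; simpa using hs
    | succ n ih =>
      intro s hs
      have h1 := hS _ (ih s hs)
      have h2 : y ^ (n + 1) * s * (y ^ (n + 1))⁻¹ = y * (y ^ n * s * (y ^ n)⁻¹) * y⁻¹ := by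
        rw [pow_succ']; group
      rw [h2]; exact h1
  have hinv : ∀ k ∈ zpowers y, ∀ s ∈ S, k * s * k⁻¹ ∈ S := by
    intro k hk s hs
    obtain ⟨n, rfl⟩ := (Submonoid.mem_powers_iff _ _).1 (mem_powers_iff_mem_zpowers.2 hk)
    exact hpow n s hs
  let _ : MulAction (zpowers y) S :=
    { smul := fun k s => ⟨k * s * (k : G)⁻¹, hinv k k.2 s s.2⟩
      one_smul := fun s => Subtype.ext (by
        show ((1 : zpowers y) : G) * s * ((1 : zpowers y) : G)⁻¹ = s
        rw [Subgroup.coe_one]; group)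
      mul_smul := fun k l s => Subtype.ext (by
        show ((k * l : zpowers y) : G) * s * ((k * l : zpowers y) : G)⁻¹ = (k : G) * ((l : G) * s * (l : G)⁻¹) * (k : G)⁻¹
        rw [Subgroup.coe_mul]; group) }
  have hp : IsPGroup r (zpowers y) := IsPGroup.of_card (n := 1) (by rw [Nat.card_zpowers, hy, pow_one])
  obtain ⟨s, hs⟩ := hp.nonempty_fixed_point_of_prime_not_dvd_card S hn
  refine ⟨s, s.2, ?_⟩
  have h1 := hs ⟨y, mem_zpowers y⟩
  have h2 : y * (s : G) * y⁻¹ = s := congrArg Subtype.val h1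
  exact mul_inv_eq_iff_eq_mul.1 h2

/-- half of the elements of `Q` do not commute with `a` -/
theorem card_noncomm {G : Type u} [Group G] [Finite G] {Q : Subgroup G} {z : G} (L : Large Q z) {a : G} (ha : a ∈ Q)
    (ha1 : a ≠ 1) (haz : a ≠ z) : 2 * Nat.card {b : G | b ∈ Q ∧ a * b ≠ b * a} = Nat.card Q := by
  obtain ⟨c, hc, hac⟩ : ∃ c ∈ Q, a * c ≠ c * a := by
    by_contra hcon
    push Not at hcon
    rcases L.cent a ha hcon with h | h
    · exact ha1 h
    · exact haz h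
  have hac' : a * c = c * a * z := (L.comm a ha c hc).resolve_left hac
  have hzc : ∀ b ∈ Q, b * z = z * b := L.comm_z
  have h1 : Nat.card {b : G | b ∈ Q ∧ a * b ≠ b * a} = Nat.card {b : G | b ∈ Q ∧ a * b = b * a} := by
    refine Nat.card_congr
      { toFun := fun b => ⟨b * c, Q.mul_mem b.2.1 hc, ?_⟩
        invFun := fun b => ⟨b * c⁻¹, Q.mul_mem b.2.1 (Q.inv_mem hc), ?_⟩
        left_inv := fun b => Subtype.ext (mul_inv_cancel_right _ _)
        right_inv := fun b => Subtype.ext (inv_mul_cancel_right _ _) }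
    · have h2 : a * (b : G) = b * a * z := (L.comm a ha b b.2.1).resolve_left b.2.2
      calc a * ((b : G) * c) = a * b * c := by group
        _ = b * a * (z * c) := by rw [h2]; group
        _ = b * (a * c) * z := by rw [← hzc c hc]; group
        _ = b * c * a * (z * z) := by rw [hac']; group
        _ = b * c * a := by rw [L.z_sq, mul_one]
    · intro h3
      have h2 : a * (b : G) = b * a := b.2.2
      have h4 : a * (b * c⁻¹) * c = b * c⁻¹ * a * c := by rw [h3]
      have h5 : a * (b * c⁻¹) * c = a * b := by group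
      have h6 : (b : G) * c⁻¹ * a * c = b * a * z := by
        calc (b : G) * c⁻¹ * a * c = b * c⁻¹ * (a * c) := by group
          _ = b * a * z := by rw [hac']; group
      rw [h5, h6, h2] at h4
      exact L.z_ne (mul_eq_left.1 h4.symm)
  have h2 : Nat.card Q = Nat.card {b : G | b ∈ Q ∧ a * b = b * a} + Nat.card {b : G | b ∈ Q ∧ a * b ≠ b * a} := by
    have h3 : (Q : Set G) = {b : G | b ∈ Q ∧ a * b = b * a} ∪ {b : G | b ∈ Q ∧ a * b ≠ b * a} := by
      ext b
      constructor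
      · intro hb
        by_cases h : a * b = b * a
        · exact Or.inl ⟨hb, h⟩
        · exact Or.inr ⟨hb, h⟩
      · rintro (hb | hb)
        · exact hb.1
        · exact hb.1
    have h4 : Disjoint {b : G | b ∈ Q ∧ a * b = b * a} {b : G | b ∈ Q ∧ a * b ≠ b * a} := by
      rw [Set.disjoint_left]
      rintro b hb hb'
      exact hb'.2 hb.2
    have h5 : Nat.card Q = Nat.card (Q : Set G) := rfl
    rw [h5, h3, Nat.card_coe_set_eq, Nat.card_coe_set_eq, Nat.card_coe_set_eq,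
      Set.ncard_union_eq h4 (Set.toFinite _) (Set.toFinite _)]
  omega

/-- **`a, b ∈ Q` commuting with `y`, `[a, b] = z`.** -/
theorem exists_pair_fix {G : Type u} [Group G] [Finite G] {Q : Subgroup G} {z : G} (L : Large Q z)
    (hQ : Nat.card Q = 2 ^ 25) {y : G} {r : ℕ} (hr : r.Prime) (hr2 : r ≠ 2) (hr24 : ¬ r ∣ 2 ^ 24 - 1) (hy : orderOf y = r)
    (hyz : y * z = z * y) : ∃ a b : G, a * y = y * a ∧ b * y = y * b ∧ a * b * a⁻¹ * b⁻¹ = z := by
  have h2 : ¬ r ∣ 2 ^ 24 := fun h => hr2 ((Nat.prime_dvd_prime_iff_eq hr Nat.prime_two).1 (hr.dvd_of_dvd_pow h))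
  have hconj : ∀ s ∈ Q, y * s * y⁻¹ ∈ Q := L.conj_mem y hyz
  -- `a`
  obtain ⟨a, ⟨haQ, ha1, haz⟩, hay⟩ := exists_fixed hr hy {s : G | s ∈ Q ∧ s ≠ 1 ∧ s ≠ z} (by
    rintro s ⟨hs, hs1, hsz⟩
    refine ⟨hconj s hs, fun h => hs1 ?_, fun h => hsz ?_⟩
    · calc s = y⁻¹ * (y * s * y⁻¹) * y := by group
        _ = 1 := by rw [h]; group
    · calc s = y⁻¹ * (y * s * y⁻¹) * y := by group
        _ = y⁻¹ * (y * z) := by rw [h, mul_assoc, hyz]
        _ = z := by group) (by
    have h3 : (Q : Set G) = {s : G | s ∈ Q ∧ s ≠ 1 ∧ s ≠ z} ∪ {1, z} := by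
      ext s
      constructor
      · intro hs
        by_cases h1 : s = 1
        · exact Or.inr (by simp [h1])
        · by_cases h2 : s = z
          · exact Or.inr (by simp [h2])
          · exact Or.inl ⟨hs, h1, h2⟩
      · rintro (hs | hs)
        · exact hs.1
        · rcases hs with rfl | hs
          · exact Q.one_mem
          · rw [Set.mem_singleton_iff.1 hs]; exact L.z_mem
    have h4 : Disjoint {s : G | s ∈ Q ∧ s ≠ 1 ∧ s ≠ z} {1, z} := by
      rw [Set.disjoint_left]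
      rintro s ⟨-, h1, h2⟩ h3
      rcases h3 with h3 | h3
      · exact h1 h3
      · exact h2 h3
    have h5 : Nat.card (Q : Set G) = 2 ^ 25 := hQ
    rw [h3, Nat.card_coe_set_eq, Set.ncard_union_eq h4 (Set.toFinite _) (Set.toFinite _),
      Set.ncard_pair L.z_ne.symm] at h5
    rw [Nat.card_coe_set_eq]
    intro hd
    have h6 : (Set.ncard {s : G | s ∈ Q ∧ s ≠ 1 ∧ s ≠ z}) = 2 * (2 ^ 24 - 1) := by
      norm_num at h5 ⊢
      omega
    rw [h6] at hd
    rcases hr.dvd_mul.1 hd with h | h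
    · exact hr2 ((Nat.prime_dvd_prime_iff_eq hr Nat.prime_two).1 h)
    · exact hr24 h)
  obtain ⟨b, ⟨hbQ, hab⟩, hby⟩ := exists_fixed hr hy {b : G | b ∈ Q ∧ a * b ≠ b * a} (by
    rintro s ⟨hs, hsa⟩
    refine ⟨hconj s hs, fun h => hsa ?_⟩
    have h1 : y⁻¹ * (a * (y * s * y⁻¹)) * y = y⁻¹ * (y * s * y⁻¹ * a) * y := by rw [h]
    have h2 : y⁻¹ * (a * (y * s * y⁻¹)) * y = a * s := by
      calc y⁻¹ * (a * (y * s * y⁻¹)) * y = y⁻¹ * (a * y) * s := by group
        _ = a * s := by rw [← hay]; group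
    have h3 : y⁻¹ * (y * s * y⁻¹ * a) * y = s * a := by
      calc y⁻¹ * (y * s * y⁻¹ * a) * y = s * y⁻¹ * (a * y) := by group
        _ = s * a := by rw [← hay]; group
    rw [h2, h3] at h1
    exact h1) (by
    have h1 := card_noncomm L haQ ha1 haz
    rw [hQ] at h1
    intro hd
    apply h2
    have h3 : Nat.card {b : G | b ∈ Q ∧ a * b ≠ b * a} = 2 ^ 24 := by
      norm_num at h1 ⊢
      omega
    rwa [h3] at hd)
  refine ⟨a, b, hay.symm, hby.symm, ?_⟩
  have h1 := (L.comm a haQ b hbQ).resolve_left hab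
  calc a * b * a⁻¹ * b⁻¹ = b * (a * z) * a⁻¹ * b⁻¹ := by rw [h1]; group
    _ = b * (z * a) * a⁻¹ * b⁻¹ := by rw [L.comm_z a haQ]
    _ = b * z * b⁻¹ := by group
    _ = z := by rw [L.comm_z b hbQ]; group

/-- all subgroups of order `q` are conjugate if `q² ∤ |X|` -/
theorem conj_of_not_sq {X : Type u} [Group X] [Finite X] {q : ℕ} (hq : q.Prime) (hq2 : ¬ q ^ 2 ∣ Nat.card X) {x y : X}
    (hx : orderOf x = q) (hy : orderOf y = q) : ∃ g : X, g * y * g⁻¹ ∈ zpowers x ∧ x ∈ zpowers (g * y * g⁻¹) := by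
  have hFq : Fact q.Prime := ⟨hq⟩
  have hxp : IsPGroup q (zpowers x) := IsPGroup.of_card (n := 1) (by rw [Nat.card_zpowers, hx, pow_one])
  have hyp : IsPGroup q (zpowers y) := IsPGroup.of_card (n := 1) (by rw [Nat.card_zpowers, hy, pow_one])
  obtain ⟨Q, hQ⟩ := hxp.exists_le_sylow
  obtain ⟨R, hR⟩ := hyp.exists_le_sylow
  obtain ⟨g, hg⟩ := MulAction.exists_smul_eq X R Q
  have hQx : (Q : Subgroup X) = zpowers x := by
    symm
    refine Subgroup.eq_of_le_of_card_ge hQ ?_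
    obtain ⟨k, hk⟩ := IsPGroup.iff_card.1 Q.2
    rw [hk, Nat.card_zpowers, hx]
    have h4 : k < 2 := by
      by_contra hk2
      refine hq2 ((Nat.pow_dvd_pow q (not_lt.1 hk2)).trans ?_)
      rw [← hk]; exact card_subgroup_dvd_card _
    calc q ^ k ≤ q ^ 1 := Nat.pow_le_pow_right hq.pos (by omega)
      _ = q := pow_one q
  have h5 : g * y * g⁻¹ ∈ zpowers x := by
    rw [← hQx, ← hg]
    have h1 : y ∈ (R : Subgroup X) := hR (mem_zpowers y)
    show _ ∈ (MulAut.conj g • (R : Subgroup X))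
    exact Subgroup.smul_mem_pointwise_smul y (MulAut.conj g) _ h1
  refine ⟨g, h5, ?_⟩
  have h6 : orderOf (g * y * g⁻¹) = q := by
    have := MulEquiv.orderOf_eq (MulAut.conj g) y
    rw [MulAut.conj_apply] at this
    rw [this, hy]
  have h7 : zpowers (g * y * g⁻¹) = zpowers x := by
    refine Subgroup.eq_of_le_of_card_ge (by rw [zpowers_le]; exact h5) ?_
    rw [Nat.card_zpowers, Nat.card_zpowers, hx, h6]
  rw [h7]; exact mem_zpowers x

/-- `Self` up to conjugation -/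
theorem exists_self_conj {G : Type u} [Group G] [Finite G] {r : ℕ} (hr : r.Prime) (hr2 : ¬ r ^ 2 ∣ Nat.card G) {v y1 y : G}
    (h : Self v y1) (hy1 : orderOf y1 = r) (hy : orderOf y = r) : ∃ g : G, Self (g * v * g⁻¹) y := by
  obtain ⟨g, h1, h2⟩ := conj_of_not_sq hr hr2 hy hy1
  exact ⟨g, (h.conj g).right h2 h1⟩

theorem order_conj {G : Type u} [Group G] (g v : G) : orderOf (g * v * g⁻¹) = orderOf v := by
  have := MulEquiv.orderOf_eq (MulAut.conj g) v
  rwa [MulAut.conj_apply] at this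

/-- transport of self-centralizing elements -/
theorem self_congr {X : Type*} {Y : Type*} [Group X] [Group Y] (e : X ≃* Y) {q : ℕ}
    (h : ∃ y : Y, orderOf y = q ∧ ∀ g : Y, g * y = y * g → g ∈ zpowers y) :
    ∃ y : X, orderOf y = q ∧ ∀ g : X, g * y = y * g → g ∈ zpowers y := by
  obtain ⟨y, hy, hC⟩ := h
  refine ⟨e.symm y, by rw [MulEquiv.orderOf_eq, hy], fun g hg => ?_⟩
  obtain ⟨i, hi⟩ := hC (e g) (by rw [← e.apply_symm_apply y, ← map_mul, ← map_mul, hg])
  refine ⟨i, e.injective ?_⟩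
  show e (e.symm y ^ i) = e g
  rw [map_zpow, e.apply_symm_apply]
  exact hi

/-! ### `Fi24'` -/

section fi

open Cfsg.Agent.Lib.PermNet Cfsg.Agent.Lib.PermNetPt Cfsg.Agent.Fischer.Fi24RepDef Cfsg.Agent.Fischer.Fi24Rep
open Cfsg.Agent.Fischer.Fi24RepOrb (UG orbG)
open Cfsg.Agent.Fischer.Fi24Spider (word_append word_cons word_nil gword gen_conj)
open Cfsg.Agent.R08.FiTwentyFour (L finite_Fi24)
open Cfsg.Agent.KFacts.FiTF.Pts Cfsg.Agent.KFacts.FiTF.FixMask Cfsg.Agent.H843.Fi24N Cfsg.Agent.H843.Pat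
open Cfsg.Agent.H353.NHFiTF
open Cfsg.Spor (Fi24)
open Cfsg.Spor.Fi24 (Gen)

/-- the centralizer in `Fi24'` of an element of order 17, 23, 29 -/
theorem exists_self_fi {x : Fi24} {q : ℕ} (hq : q.Prime) (hq2 : Odd q) (hx : orderOf x = q)
    (hc : Nat.card (centralizer (zpowers x : Set Fi24)) = q * 2 ∨ Nat.card (centralizer (zpowers x : Set Fi24)) = q)
    (hl : Nat.card (centralizer (zpowers x : Set Fi24)) = q * 2 →
      ∃ d ∈ L, d ∈ centralizer (zpowers x : Set Fi24)) :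
    ∃ y : Spor.Fi24', orderOf y = q ∧ ∀ g : Spor.Fi24', g * y = y * g → g ∈ zpowers y := by
  have := finite_Fi24
  have := H353.NHFiTF.finite_prime
  have hm : x ∈ commutator Fi24 := mem_commutator (by rw [hx]; exact hq2)
  have hc' : Nat.card ↥(commutator Fi24 ⊓ centralizer (zpowers x : Set Fi24)) ∣ q := by
    rcases hc with h | h
    · obtain ⟨d, hd, hd'⟩ := hl h
      have h1 := half hd' hd
      rw [h] at h1
      rw [Nat.eq_of_mul_eq_mul_right (by norm_num : 0 < 2) h1]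
    · rw [← h]
      exact card_dvd_of_le inf_le_right
  refine ⟨⟨x, hm⟩, by rw [Subgroup.orderOf_mk, hx], ?_⟩
  have hd : Nat.card (centralizer ({(⟨x, hm⟩ : Spor.Fi24')} : Set Spor.Fi24')) ∣ q := by
    refine Dvd.dvd.trans ?_ hc'
    rw [← card_map_of_injective (commutator Fi24).subtype_injective]
    apply card_dvd_of_le
    rintro _ ⟨g, hg, rfl⟩
    refine ⟨g.2, ?_⟩
    have h2 : (g : Spor.Fi24') * ⟨x, hm⟩ = ⟨x, hm⟩ * g := mem_centralizer_singleton_iff.1 hg
    have h3 : (g : Fi24) * x = x * g := congrArg Subtype.val h2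
    exact H843.Cyc.mem_centralizer_zpowers.2 h3
  have h1 : zpowers (⟨x, hm⟩ : Spor.Fi24') = centralizer ({(⟨x, hm⟩ : Spor.Fi24')} : Set Spor.Fi24') := by
    refine Subgroup.eq_of_le_of_card_ge ?_ ?_
    · rw [zpowers_le, mem_centralizer_singleton_iff]
    · rw [Nat.card_zpowers, Subgroup.orderOf_mk, hx]
      exact Nat.le_of_dvd hq.pos hd
  intro g hg
  rw [h1]
  exact mem_centralizer_singleton_iff.2 hg

theorem fi17 : ∃ y : Spor.Fi24', orderOf y = 17 ∧ ∀ g : Spor.Fi24', g * y = y * g → g ∈ zpowers y :=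
  exists_self_fi (by norm_num) (by decide) H843.D17.order (Or.inl H843.D17.main.2) fun _ =>
    ⟨gen .l, gen_l_mem, by
      have h : gen .l ∈ L ∩ (centralizer (zpowers H843.D17.D.x : Set Fi24) : Set Fi24) := by
        rw [H843.D17.inter]; rfl
      exact h.2⟩

theorem fi23 : ∃ y : Spor.Fi24', orderOf y = 23 ∧ ∀ g : Spor.Fi24', g * y = y * g → g ∈ zpowers y :=
  exists_self_fi (by norm_num) (by decide) H843.D23.order (Or.inl H843.D23.main.2) fun _ =>
    ⟨gen .l, gen_l_mem, by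
      have h : gen .l ∈ L ∩ (centralizer (zpowers H843.D23.D.x : Set Fi24) : Set Fi24) := by
        rw [H843.D23.inter]; rfl
      exact h.2⟩

theorem fi29 : ∃ y : Spor.Fi24', orderOf y = 29 ∧ ∀ g : Spor.Fi24', g * y = y * g → g ∈ zpowers y :=
  exists_self_fi (by norm_num) (by decide) H843.D29.order (Or.inr H843.D29.main.2) fun h => by
    rw [H843.D29.main.2] at h
    exact absurd h (by norm_num)

end fi

/-- `C_He(y) = ⟨y⟩` -/
theorem he17 : ∃ y : Spor.He, orderOf y = 17 ∧ ∀ g : Spor.He, g * y = y * g → g ∈ zpowers y := by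
  have hfin : Finite Spor.He := Nat.finite_of_card_ne_zero (by rw [KFacts.He.Classes.card_he]; norm_num)
  refine ⟨_, H153.Zeros.He17.o17, fun g hg => ?_⟩
  have h1 := H153.Zeros.He17.card_cent_eq
  have h2 : zpowers (SporadicB.HePerm.wd H153.Zeros.He17.W17) =
      centralizer ({SporadicB.HePerm.wd H153.Zeros.He17.W17} : Set Spor.He) := by
    refine Subgroup.eq_of_le_of_card_ge ?_ ?_
    · rw [zpowers_le, mem_centralizer_singleton_iff]
    · rw [h1, Nat.card_zpowers, H153.Zeros.He17.o17]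
  rw [h2]
  exact mem_centralizer_singleton_iff.2 hg

/-! ### The Monster -/

/-- `v` of order 3 with `C(v) ∩ C(y) = ⟨v⟩⟨y⟩`, `y` of order 17, 23, 29 -/
theorem exists_three {r : ℕ} (hr : r.Prime) (hr3 : 3 ≠ r) (hr2 : ¬ r ^ 2 ∣ Nat.card Gam)
    (hfi : ∃ y : Spor.Fi24', orderOf y = r ∧ ∀ g : Spor.Fi24', g * y = y * g → g ∈ zpowers y) {y : Gam}
    (hy : orderOf y = r) : ∃ v : Gam, orderOf v = 3 ∧ Self v y := by
  obtain ⟨v, hv, -, h⟩ := exists_fi
  have hv' : orderOf (v : Gam) = 3 := by rw [Subgroup.orderOf_coe, hv]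
  obtain ⟨e⟩ := h
  obtain ⟨y0, hy0, hC⟩ := self_congr e hfi
  obtain ⟨y1, hy1, hs⟩ := exists_self Nat.prime_three hr hr3 hv' hy0 hC
  obtain ⟨g, hg⟩ := exists_self_conj hr hr2 hs hy1 hy
  exact ⟨_, by rw [order_conj, hv'], hg⟩

/-- `w` of order 7 with `C(w) ∩ C(y) = ⟨w⟩⟨y⟩`, `y` of order 17 -/
theorem exists_seven {y : Gam} (hy : orderOf y = 17) : ∃ w : Gam, orderOf w = 7 ∧ Self w y := by
  obtain ⟨v, hv, h⟩ := exists_he
  have hv' : orderOf (v : Gam) = 7 := by rw [Subgroup.orderOf_coe, hv]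
  obtain ⟨e⟩ := h
  obtain ⟨y0, hy0, hC⟩ := self_congr e he17
  obtain ⟨y1, hy1, hs⟩ := exists_self (by norm_num) (by norm_num) (by norm_num) hv' hy0 hC
  obtain ⟨g, hg⟩ := exists_self_conj (r := 17) (by norm_num) (by rw [card_G]; norm_num) hs hy1 hy
  exact ⟨_, by rw [order_conj, hv'], hg⟩

/-- **`|C(y)|` divides `168 * 17`.** -/
theorem card_seventeen (h3 : Three.{0}) {y : Gam} (hy : orderOf y = 17) :
    Nat.card (centralizer ({y} : Set Gam)) ∣ 168 * 17 := by
  obtain ⟨v, hv, hvy⟩ := exists_three (r := 17) (by norm_num) (by norm_num) (by rw [card_G]; norm_num) fi17 hy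
  obtain ⟨w, hw, hwy⟩ := exists_seven hy
  exact card_dvd_168 h3 (by norm_num) (by norm_num) (by norm_num) hy hv hvy hw hwy

theorem no_17_q (h3 : Three.{0}) {q : ℕ} (hq : q.Prime) (hqd : ¬ q ∣ 168 * 17) (x y : Gam) (hx : orderOf x = 17)
    (hy : orderOf y = q) : x * y ≠ y * x := by
  intro h
  apply hqd
  refine Dvd.dvd.trans ?_ (card_seventeen h3 hx)
  rw [← hy, ← Subgroup.orderOf_mk y (mem_centralizer_singleton_iff.2 h.symm)]
  exact _root_.orderOf_dvd_natCard _

theorem no_17_11 (h3 : Three.{0}) (x y : Gam) (hx : orderOf x = 17) (hy : orderOf y = 11) : x * y ≠ y * x :=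
  no_17_q h3 (by norm_num) (by norm_num) x y hx hy

theorem no_17_13 (h3 : Three.{0}) (x y : Gam) (hx : orderOf x = 17) (hy : orderOf y = 13) : x * y ≠ y * x :=
  no_17_q h3 (by norm_num) (by norm_num) x y hx hy

theorem no_17_19 (h3 : Three.{0}) (x y : Gam) (hx : orderOf x = 17) (hy : orderOf y = 19) : x * y ≠ y * x :=
  no_17_q h3 (by norm_num) (by norm_num) x y hx hy

theorem no_17_23 (h3 : Three.{0}) (x y : Gam) (hx : orderOf x = 17) (hy : orderOf y = 23) : x * y ≠ y * x :=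
  no_17_q h3 (by norm_num) (by norm_num) x y hx hy

/-- an element of order 23 in `C(z)` -/
theorem exists_pair23 {y : Gam} (hy : orderOf y = 23) : ∃ z a b : Gam, z * z = 1 ∧
    Nat.card (centralizer ({z} : Set Gam)) = 2 ^ 25 * 4157776806543360000 ∧
    a * y = y * a ∧ b * y = y * b ∧ a * b * a⁻¹ * b⁻¹ = z := by
  have : Fact (Nat.Prime 23) := ⟨by norm_num⟩
  obtain ⟨y1, hy1⟩ := exists_prime_orderOf_dvd_card' (G := centralizer ({KDone.K.z} : Set Gam)) 23
    (by rw [card_cz]; norm_num)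
  have hy1' : orderOf (y1 : Gam) = 23 := by rw [Subgroup.orderOf_coe, hy1]
  obtain ⟨a, b, hay, hby, hab⟩ := exists_pair_fix chart.large chart.card_Q (r := 23) (by norm_num) (by norm_num)
    (by norm_num) hy1' (mem_centralizer_singleton_iff.1 y1.2)
  obtain ⟨g, h1, h2⟩ := conj_of_not_sq (q := 23) (by norm_num) (by rw [card_G]; norm_num) hy hy1'
  obtain ⟨j, hj⟩ := h2
  have hj : (g * (y1 : Gam) * g⁻¹) ^ j = y := hj
  have key : ∀ c : Gam, c * y1 = y1 * c → (g * c * g⁻¹) * y = y * (g * c * g⁻¹) := by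
    intro c hc
    rw [← hj]
    refine ((show Commute (g * c * g⁻¹) (g * (y1 : Gam) * g⁻¹) from ?_).zpow_right j).eq
    show g * c * g⁻¹ * (g * y1 * g⁻¹) = g * y1 * g⁻¹ * (g * c * g⁻¹)
    calc g * c * g⁻¹ * (g * y1 * g⁻¹) = g * (c * y1) * g⁻¹ := by group
      _ = g * (y1 * c) * g⁻¹ := by rw [hc]
      _ = _ := by group
  refine ⟨g * KDone.K.z * g⁻¹, g * a * g⁻¹, g * b * g⁻¹, ?_, ?_, key a hay, key b hby, ?_⟩
  · calc g * KDone.K.z * g⁻¹ * (g * KDone.K.z * g⁻¹) = g * (KDone.K.z * KDone.K.z) * g⁻¹ := by group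
      _ = 1 := by rw [chart.large.z_sq]; group
  · rw [← card_cz]
    have h3 := centralizer_map_equiv (MulAut.conj g) KDone.K.z
    rw [MulAut.conj_apply] at h3
    rw [h3]
    exact card_map_of_injective (MulAut.conj g).injective
  · rw [← hab]; group

theorem no_19_23 (h3 : Three.{0}) (x y : Gam) (hx : orderOf x = 19) (hy : orderOf y = 23) : x * y ≠ y * x := by
  obtain ⟨v, hv, hvy⟩ := exists_three (r := 23) (by norm_num) (by norm_num) (by rw [card_G]; norm_num) fi23 hy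
  obtain ⟨z, a, b, hz, hcz, hay, hby, hab⟩ := exists_pair23 hy
  exact no_comm_of_comm h3 (r := 23) (by norm_num) (by norm_num) (by norm_num) hy hv hvy hay hby hab hz (q := 19)
    (by norm_num) (by norm_num) (by norm_num) (by rw [card_G]; norm_num) (by rw [hcz]; norm_num) x hx

/-- for `x` commuting with a conjugate of `z` -/
theorem no_5_13 (x y : Gam) (hx : orderOf x = 5) (hy : orderOf y = 13)
    (hex : ∃ g : Gam, (g * KDone.K.z * g⁻¹) * x = x * (g * KDone.K.z * g⁻¹)) : x * y ≠ y * x := by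
  intro h
  refine MThirteen.FiveRow.not_dvd_five (CpAutBFive.Closed.coFive CpAutBFive.Final.hJ) CpAutBFive.Final.hJ hx hex ?_
  rw [← hy, ← Subgroup.orderOf_mk y (mem_centralizer_singleton_iff.2 h.symm)]
  exact _root_.orderOf_dvd_natCard _

end Cfsg.Agent.H241.Mon
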