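import Cfsg.Agent.H241.NHBase
import Cfsg.Agent.H393.Iso.Base
import Cfsg.Agent.H545.PQ.Basic
import Cfsg.Agent.S0205

/-!
# More tools for the sporadic rows of the nilpotent Hall cluster (helper241)

* `Fr p q X` : a Frobenius relation `u y u⁻¹ = y ^ m ≠ y` (inherited by overgroups), gives `NC p q X`;
* `solv_of_na` : an element of prime order `r` with solvable centralizer if `NA r X` (odd order theorem);
* `nc_of_fix` : an element of order `q` whose number of fixed points is prime to `p` in an action all of whose orbits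
  have length divisible by `p`;
* `nc_of_sylow` : from the order of the centralizer of an element generating a Sylow `q`-subgroup.
-/

set_option autoImplicit false
open Subgroup

namespace Cfsg.Agent.H241.NH

open Cfsg.Agent.H630.NH Cfsg.Agent.H393.Iso

universe u v

/-- an element of order `p` normalizing and not centralizing a subgroup of order `q` -/
def Fr (p q : ℕ) (X : Type u) [Group X] : Prop :=
  ∃ u y : X, orderOf u = p ∧ orderOf y = q ∧ (∃ m : ℕ, u * y * u⁻¹ = y ^ m) ∧ u * y ≠ y * u

theorem Fr.map {p q : ℕ} {X : Type u} {Y : Type v} [Group X] [Group Y] (h : Fr p q X) (f : X →* Y)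
    (hf : Function.Injective f) : Fr p q Y := by
  obtain ⟨u, y, hu, hy, ⟨m, hm⟩, hne⟩ := h
  refine ⟨f u, f y, ?_, ?_, ⟨m, ?_⟩, ?_⟩
  · rw [orderOf_injective f hf, hu]
  · rw [orderOf_injective f hf, hy]
  · rw [← map_mul, ← map_inv, ← map_mul, hm, map_pow]
  · rw [← map_mul, ← map_mul]
    exact fun h => hne (hf h)

theorem Fr.congr {p q : ℕ} {X : Type u} {Y : Type v} [Group X] [Group Y] (e : X ≃* Y) (h : Fr p q X) : Fr p q Y :=
  h.map e.toMonoidHom e.injective

theorem Fr.sub {p q : ℕ} {X : Type u} [Group X] {K : Subgroup X} (h : Fr p q K) : Fr p q X :=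
  h.map K.subtype K.subtype_injective

theorem Fr.of_le {p q : ℕ} {X : Type u} [Group X] {H K : Subgroup X} (h : Fr p q H) (hle : H ≤ K) : Fr p q K :=
  h.map (inclusion hle) (inclusion_injective hle)

theorem Fr.nc {p q : ℕ} {X : Type u} [Group X] [Finite X] (h : Fr p q X) (hp : p.Prime) (hpq : p ≠ q) : NC p q X := by
  obtain ⟨u, y, hu, hy, ⟨m, hm⟩, hne⟩ := h
  exact nc_of_act hp hpq ⟨1, by rw [hu, pow_one]⟩ ⟨1, by rw [hy, pow_one]⟩ hm hne

/-- the form in which a Frobenius relation is given by words in a model -/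
theorem fr_of_rel {p q : ℕ} (hp : p.Prime) (hq : q.Prime) {X : Type u} [Group X] {u y : X} (hu : u ^ p = 1)
    (hy : y ^ q = 1) {m : ℕ} (hm : u * y * u⁻¹ = y ^ m) (hne : u * y ≠ y * u) : Fr p q X := by
  have h1 : Fact p.Prime := ⟨hp⟩
  have h2 : Fact q.Prime := ⟨hq⟩
  refine ⟨u, y, orderOf_eq_prime hu ?_, orderOf_eq_prime hy ?_, ⟨m, hm⟩, hne⟩
  · rintro rfl
    exact hne (by rw [one_mul, mul_one])
  · rintro rfl
    exact hne (by rw [one_mul, mul_one])

section

variable {X : Type u} [Group X] [Finite X] {p q : ℕ}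

/-- odd order theorem: solvable centralizer -/
theorem solv_of_na {r : ℕ} (hr : r.Prime) (hd : r ∣ Nat.card X) (h : NA r X) :
    ∃ x : X, orderOf x = r ∧ IsSolvable (centralizer ({x} : Set X)) := by
  have : Fact r.Prime := ⟨hr⟩
  obtain ⟨x, hx⟩ := exists_prime_orderOf_dvd_card' r hd
  exact ⟨x, hx, solvable_of_odd (fun K _ _ h => S0205.result h) fun t ht => h x t hx ht⟩

/-- **Fixed points.** All orbits have length divisible by `p`, and the number of fixed points of an element of order
`q` is prime to `p`. -/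
theorem nc_of_fix (hp : p.Prime) (hpq : p ≠ q) {Ω : Type*} [Finite Ω] [MulAction X Ω]
    (h : ∀ a : Ω, p ∣ (MulAction.stabilizer X a).index) {x : X} (hx : ∃ k : ℕ, orderOf x = q ^ k)
    (hf : ¬ p ∣ Nat.card (MulAction.fixedBy Ω x)) : NC p q X := by
  intro hc
  have : Fact p.Prime := ⟨hp⟩
  have h1 : ¬ p ∣ (centralizer ({x} : Set X)).index := hc q (by simp) p (by simp) hpq.symm x hx
  obtain ⟨P, hP⟩ := H630.CLib.exists_sylow_le p _ h1
  -- the action of `P` on the fixed points
  have hmem : ∀ (g : (P : Subgroup X)) (a : MulAction.fixedBy Ω x), (g : X) • (a : Ω) ∈ MulAction.fixedBy Ω x := by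
    intro g a
    have h2 : (g : X) * x = x * g := mem_centralizer_singleton_iff.1 (hP g.2)
    rw [MulAction.mem_fixedBy, smul_smul, ← h2, mul_smul, MulAction.mem_fixedBy.1 a.2]
  letI : MulAction (P : Subgroup X) (MulAction.fixedBy Ω x) :=
    { smul := fun g a => ⟨(g : X) • (a : Ω), hmem g a⟩
      one_smul := fun a => Subtype.ext (one_smul X (a : Ω))
      mul_smul := fun g h a => Subtype.ext (mul_smul (g : X) (h : X) (a : Ω)) }
  have h2 := P.2.nonempty_fixed_point_of_prime_not_dvd_card (MulAction.fixedBy Ω x) hf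
  obtain ⟨a, ha⟩ := h2
  have h3 : (P : Subgroup X) ≤ MulAction.stabilizer X (a : Ω) := by
    intro g hg
    rw [MulAction.mem_stabilizer_iff]
    exact congrArg Subtype.val (ha ⟨g, hg⟩)
  exact P.not_dvd_index ((h (a : Ω)).trans (index_dvd_of_le h3))

/-- the same for a transitive action -/
theorem nc_of_fix_trans (hp : p.Prime) (hpq : p ≠ q) {Ω : Type*} [Finite Ω] [MulAction X Ω]
    [MulAction.IsPretransitive X Ω] (h : p ∣ Nat.card Ω) {x : X} (hx : ∃ k : ℕ, orderOf x = q ^ k)
    (hf : ¬ p ∣ Nat.card (MulAction.fixedBy Ω x)) : NC p q X :=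
  nc_of_fix hp hpq (Ω := Ω) (fun a => by rwa [MulAction.index_stabilizer_of_transitive]) hx hf

/-- **Sylow `q`-subgroups of prime order**: the order of the centralizer determines `|N : C|`. -/
theorem nc_of_sylow (hp : p.Prime) (hq : q.Prime) (hpq : p ≠ q) (hq2 : ¬ q ^ 2 ∣ Nat.card X) {x : X}
    (hx : orderOf x = q) {c : ℕ} (hc : Nat.card (centralizer ({x} : Set X)) = c)
    (h : p ∣ (Nat.card X / c) % q) : NC p q X := by
  have hF : Fact p.Prime := ⟨hp⟩
  have hFq : Fact q.Prime := ⟨hq⟩
  -- the Sylow subgroup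
  set Z : Subgroup X := zpowers x with hZ
  have hZc : Nat.card Z = q := by rw [hZ, Nat.card_zpowers, hx]
  have hZp : IsPGroup q Z := IsPGroup.of_card (n := 1) (by rw [hZc, pow_one])
  obtain ⟨Q, hQ⟩ := hZp.exists_le_sylow
  have hQZ : (Q : Subgroup X) = Z := by
    symm
    refine Subgroup.eq_of_le_of_card_ge hQ ?_
    obtain ⟨k, hk⟩ := IsPGroup.iff_card.1 Q.2
    rw [hk, hZc]
    have h4 : k < 2 := by
      by_contra hk2
      refine hq2 ((Nat.pow_dvd_pow q (not_lt.1 hk2)).trans ?_)
      rw [← hk]; exact card_subgroup_dvd_card _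
    calc q ^ k ≤ q ^ 1 := Nat.pow_le_pow_right hq.pos (by omega)
      _ = q := pow_one q
  set N := normalizer ((Z : Subgroup X) : Set X) with hN
  have h1 : N.index ≡ 1 [MOD q] := by
    have h2 := card_sylow_modEq_one q X
    have h3 : normalizer (((Q : Subgroup X) : Set X)) = N := by rw [hQZ]
    rw [Sylow.card_eq_index_normalizer Q] at h2
    rw [← h3]
    exact h2
  set C := centralizer ({x} : Set X) with hC
  have hCN : C ≤ N := by
    intro g hg
    rw [hC, mem_centralizer_singleton_iff] at hg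
    rw [hN, mem_normalizer_iff]
    intro b
    have key : ∀ i : ℤ, g * x ^ i * g⁻¹ = x ^ i := fun i => by
      have h2 : Commute g (x ^ i) := (show Commute g x from hg).zpow_right i
      rw [h2.eq, mul_inv_cancel_right]
    constructor
    · rintro ⟨i, rfl⟩
      exact ⟨i, (key i).symm⟩
    · rintro ⟨i, hi⟩
      refine ⟨i, ?_⟩
      have h3 : g * x ^ i * g⁻¹ = g * b * g⁻¹ := (key i).trans hi
      exact mul_left_cancel (mul_right_cancel h3)
  -- `p` divides `|N : C|`
  have h2 : C.index = C.relIndex N * N.index := (relIndex_mul_index hCN).symm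
  have h3 : Nat.card X / c = C.index := by
    have h4 := C.card_mul_index
    rw [hc] at h4
    rw [← h4]
    exact Nat.mul_div_cancel_left _ (by rw [← hc]; exact Nat.card_pos)
  have hxC : x ∈ C := mem_centralizer_singleton_iff.2 rfl
  have hCn : (C.subgroupOf N).Normal := by
    constructor
    rintro ⟨c, hc⟩ hcC ⟨n, hn⟩
    rw [mem_subgroupOf] at hcC ⊢
    rw [hC, mem_centralizer_singleton_iff] at hcC ⊢
    show n * c * n⁻¹ * x = x * (n * c * n⁻¹)
    have hn' : n⁻¹ ∈ N := inv_mem hn
    have h2 : n⁻¹ * x * n⁻¹⁻¹ ∈ zpowers x := ((mem_normalizer_iff.1 hn') x).1 (mem_zpowers x)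
    obtain ⟨i, hi⟩ := h2
    have h3 : Commute c (x ^ i) := (show Commute c x from hcC).zpow_right i
    have h4 : x = n * x ^ i * n⁻¹ := by
      have : x ^ i = n⁻¹ * x * n⁻¹⁻¹ := hi
      rw [this]; group
    rw [h4]
    calc n * c * n⁻¹ * (n * x ^ i * n⁻¹) = n * (c * x ^ i) * n⁻¹ := by group
      _ = n * (x ^ i * c) * n⁻¹ := by rw [h3.eq]
      _ = n * x ^ i * n⁻¹ * (n * c * n⁻¹) := by group
  -- `|N : C| < q`
  have h4 : C.relIndex N ∣ q - 1 := by
    let φ : N →* MulAut Z := Subgroup.normalizerMonoidHom Z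
    have h5 : φ.ker = C.subgroupOf N := by
      ext n
      rw [MonoidHom.mem_ker, mem_subgroupOf, hC, mem_centralizer_singleton_iff]
      constructor
      · intro h
        have h6 := congrArg (fun f : MulAut Z => ((f ⟨x, mem_zpowers x⟩ : Z) : X)) h
        have h7 : (n : X) * x * (n : X)⁻¹ = x := h6
        rw [mul_inv_eq_iff_eq_mul] at h7
        exact h7
      · intro h
        apply MulEquiv.ext
        rintro ⟨z, i, rfl⟩
        apply Subtype.ext
        show (n : X) * x ^ i * (n : X)⁻¹ = x ^ i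
        rw [((show Commute (n : X) x from h).zpow_right i).eq, mul_inv_cancel_right]
    have h6 : C.relIndex N = Nat.card φ.range := by
      rw [relIndex, ← h5, index_ker]
    have h7 : Nat.card (MulAut Z) = q - 1 := by
      have hcyc : IsCyclic Z := isCyclic_of_prime_card hZc
      rw [IsCyclic.card_mulAut, hZc, Nat.totient_prime hq]
    rw [h6, ← h7]
    exact card_subgroup_dvd_card _
  have h5 : C.relIndex N < q := by
    have := Nat.le_of_dvd (by have := hq.two_le; omega) h4
    have := hq.two_le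
    omega
  have h6 : (Nat.card X / c) % q = C.relIndex N := by
    rw [h3, h2]
    have h7 : C.relIndex N * N.index ≡ C.relIndex N * 1 [MOD q] := Nat.ModEq.mul_left _ h1
    rw [mul_one] at h7
    have h8 : (C.relIndex N * N.index) % q = C.relIndex N % q := h7
    rw [h8, Nat.mod_eq_of_lt h5]
  rw [h6] at h
  refine nc_of_index hpq.symm (x := x) ⟨1, by rw [hx, pow_one]⟩ ?_ |>.symm
  rw [← hC, h2]
  exact h.mul_right _

end

end Cfsg.Agent.H241.NH
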