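import Cfsg.Agent.H241.NHMonD
import Cfsg.Agent.H443.NHHN.Row
import Cfsg.Agent.H322.NH.HeRu
import Cfsg.Agent.H713.Spor.B
import Cfsg.Agent.MonsterU.Uncond
import Cfsg.Agent.MonsterU.NodesU
import Cfsg.Agent.SylowL5.TypeAGen

/-!
# Row of the nilpotent Hall cluster: the Monster (helper241)

* `exists_cov` : the centralizer of a `2A`-involution;
* `solvable_m` : solvable centralizers;
* `row_m` : the row, from S3331.
-/

set_option autoImplicit false
set_option maxRecDepth 100000
open Subgroup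

namespace Cfsg.Agent.H241.Mon

open Cfsg Cfsg.Agent.H630.NH Cfsg.Agent.H241.NH Cfsg.Agent.H393.Iso
open Cfsg.Agent.MonsterX Cfsg.Agent.MonsterX.InstData Cfsg.Agent.MonsterX.MainPack Cfsg.Agent.MonsterU
open Cfsg.Agent.MonsterX.MainBasic Cfsg.Agent.MonsterX.MainSimple Cfsg.Agent.MonsterX.Model
open Cfsg.Agent.LThreeMB (fr XX KChart.Cent KChart.pi KChart.chart)
open Cfsg.Agent.MonsterU.Ch
open Cfsg.Spor (Co1)

/-! ### `(5, 19)` and `(7, 17)` -/

theorem mk_ker' {v : Gam} {p q : ℕ} (hv : orderOf v = p) (hp : p.Prime) (hq : q.Prime) (hqp : q ≠ p) :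
    ¬ q ∣ Nat.card (QuotientGroup.mk' (LThreeMB.Zx v)).ker := by
  rw [QuotientGroup.ker_mk']
  have h7 : Nat.card (LThreeMB.Zx v) = p := by
    show Nat.card (zpowers (LThreeMB.self v)) = p
    rw [Nat.card_zpowers, ← hv]
    exact Subgroup.orderOf_mk v _
  rw [h7]
  exact fun h => hqp ((Nat.prime_dvd_prime_iff_eq hq hp).1 h)

theorem nc_of_quot {v : Gam} {p q : ℕ} (hv : orderOf v = p) (hp : p.Prime) (hq : q.Prime) (hqp : q ≠ p)
    (hd : q ∣ Nat.card Gam) (h : NCG p q (XX v)) : NC p q Gam := by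
  have h1 : NCG p q (centralizer ({v} : Set Gam)) :=
    NCG.of_surj hp hq (QuotientGroup.mk' (LThreeMB.Zx v)) (QuotientGroup.mk'_surjective _) (mk_ker' hv hp hq hqp) h
  exact (NCG.of_cent ⟨1, by rw [hv, pow_one]⟩ h1).nc hp hq hqp.symm hd

theorem nc_five_nineteen : NC 5 19 Gam := by
  obtain ⟨v, hv, -, h⟩ := exists_hn
  obtain ⟨e⟩ := h
  have hv' : orderOf (v : Gam) = 5 := by rw [Subgroup.orderOf_coe, hv]
  have hHN : Finite Spor.HN := Finite.of_equiv _ e.toEquiv
  have hc : Nat.card Spor.HN = 273030912000000 := card_hn ⟨MulEquiv.refl _⟩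
  have h1 : NCG 5 19 Spor.HN := ncg_of_nc (by norm_num) (by norm_num) (by rw [hc]; norm_num)
    (H443.NHHN.nc_19 (Or.inr rfl)).symm
  exact nc_of_quot hv' (by norm_num) (by norm_num) (by norm_num) (by rw [card_G]; norm_num) (h1.congr e.symm)

theorem nc_seven_seventeen : NC 7 17 Gam := by
  obtain ⟨v, hv, h⟩ := exists_he
  obtain ⟨e⟩ := h
  have hv' : orderOf (v : Gam) = 7 := by rw [Subgroup.orderOf_coe, hv]
  have hHe : Finite Spor.He := Finite.of_equiv _ e.toEquiv
  have hc : Nat.card Spor.He = 4030387200 := KFacts.He.Classes.card_he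
  have h1 : NCG 7 17 Spor.He := ncg_of_nc (by norm_num) (by norm_num) (by rw [hc]; norm_num)
    (H322.NH.HeR.nc17 (q := 7) (by norm_num) (by norm_num) (by norm_num)).symm
  exact nc_of_quot hv' (by norm_num) (by norm_num) (by norm_num) (by rw [card_G]; norm_num) (h1.congr e.symm)

/-! ### Involutions -/

/-- **`C(t)/⟨t⟩ = B`.** -/
theorem exists_cov : ∃ t : Gam, orderOf t = 2 ∧
    (∀ v : Gam, orderOf v = 2 → (∃ g, g * KDone.K.z * g⁻¹ = v) ∨ ∃ g, g * t * g⁻¹ = v) ∧
    Nat.card (centralizer ({t} : Set Gam)) = 2 * 4154781481226426191177580544000000 ∧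
    ∃ q : centralizer ({t} : Set Gam) →* Spor.BabyMonster, Function.Surjective q ∧ ∀ c, q c = 1 → c = 1 ∨ (c : Gam) = t := by
  have A := MonsterN.LitFin.all
  obtain ⟨t, ht, hcov⟩ := A.cover (MonsterP.NodesGrp.prel MonsterN.LitFin.H) (MonsterP.NodesNe.ne MonsterN.LitFin.H)
    MonsterN.LitFin.conj_ten S1704.result
  have hx2 : t * t = 1 := by rw [← pow_two, ← ht, pow_orderOf_eq_one]
  have ht1 : t ≠ 1 := by
    rintro rfl
    rw [orderOf_one] at ht
    norm_num at ht
  have hcx : Nat.card (centralizer ({t} : Set Gam)) = 2 * 4154781481226426191177580544000000 := by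
    obtain ⟨h1, ⟨f⟩, -⟩ := hcov
    rw [Subgroup.card_eq_card_quotient_mul_card_subgroup (center _), h1, Nat.card_congr f.toEquiv, S1704.result.2,
      mul_comm]
  have hzz : KDone.K.z = zG MonsterN.LitFin.all.hG := Subtype.ext KDone.lnk.z_eq.symm
  have hcc : ∀ (g v : Gam), Nat.card (centralizer ({g * v * g⁻¹} : Set Gam)) = Nat.card (centralizer ({v} : Set Gam)) := by
    intro g v
    have h3 := centralizer_map_equiv (MulAut.conj g) v
    rw [MulAut.conj_apply] at h3
    rw [h3]
    exact card_map_of_injective (MulAut.conj g).injective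
  have hxt : ∃ h, h * tG A.hG A.hR * h⁻¹ = t := by
    rcases A.classes t hx2 ht1 with ⟨h, hh⟩ | h
    · exfalso
      rw [← hzz] at hh
      rw [← hh, hcc, card_cz] at hcx
      norm_num at hcx
    · exact h
  obtain ⟨h, hh⟩ := hxt
  refine ⟨t, ht, ?_, hcx, ?_⟩
  · intro v hv
    have hv1 : v ≠ 1 := by
      rintro rfl
      rw [orderOf_one] at hv
      norm_num at hv
    rcases A.classes v (by rw [← pow_two, ← hv, pow_orderOf_eq_one]) hv1 with ⟨g, hg⟩ | ⟨g, hg⟩
    · left
      rw [hzz]; exact ⟨g, hg⟩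
    · right
      refine ⟨g * h⁻¹, ?_⟩
      rw [← hg, ← hh]; group
  · set C := centralizer ({t} : Set Gam) with hC
    have htC : t ∈ C := mem_centralizer_singleton_iff.2 rfl
    have hcen : ∀ x : C, x * ⟨t, htC⟩ = ⟨t, htC⟩ * x := fun x => Subtype.ext (mem_centralizer_singleton_iff.1 x.2)
    have ht1' : (⟨t, htC⟩ : C) ≠ 1 := fun h => ht1 (congrArg Subtype.val h)
    obtain ⟨h2, ⟨e⟩, -⟩ := hcov
    refine ⟨e.toMonoidHom.comp (QuotientGroup.mk' (center C)), e.surjective.comp (QuotientGroup.mk'_surjective _), ?_⟩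
    intro c hc
    have h3 : QuotientGroup.mk' (center C) c = 1 := e.injective (by rw [map_one]; exact hc)
    have h4 : c ∈ center C := (QuotientGroup.eq_one_iff c).1 h3
    by_contra hcon
    push Not at hcon
    have htm : (⟨t, htC⟩ : C) ∈ center C := mem_center_iff.2 hcen
    have h5 : 2 < Nat.card (center C) := by
      have hf : Finite (center C) := Nat.finite_of_card_ne_zero (by rw [h2]; norm_num)
      have h6 : ({1, ⟨c, h4⟩, ⟨⟨t, htC⟩, htm⟩} : Set (center C)).ncard = 3 := by
        rw [Set.ncard_eq_three]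
        refine ⟨_, _, _, ?_, ?_, ?_, rfl⟩
        · intro h; exact hcon.1 (congrArg Subtype.val h).symm
        · intro h; exact ht1' (congrArg Subtype.val h).symm
        · intro h; exact hcon.2 (congrArg (fun v : center C => ((v : C) : Gam)) h)
      have h7 := Set.ncard_le_card ({1, ⟨c, h4⟩, ⟨⟨t, htC⟩, htm⟩} : Set (center C))
      omega
    exact lt_irrefl 2 (h5.trans_eq h2)

theorem card_conj' (g v : Gam) : Nat.card (centralizer ({g * v * g⁻¹} : Set Gam)) = Nat.card (centralizer ({v} : Set Gam)) := by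
  have h3 := centralizer_map_equiv (MulAut.conj g) v
  rw [MulAut.conj_apply] at h3
  rw [h3]
  exact card_map_of_injective (MulAut.conj g).injective

/-- primes not adjacent to 2 -/
theorem na_of {r : ℕ} (hz : ¬ r ∣ 2 ^ 25 * 4157776806543360000) (ht : ¬ r ∣ 2 * 4154781481226426191177580544000000) :
    NA r Gam := by
  obtain ⟨t, ht2, hcl, hct, -⟩ := exists_cov
  intro x v hx hv hxv
  rcases hcl v hv with ⟨g, rfl⟩ | ⟨g, rfl⟩
  · refine not_comm_of_card ?_ hx hxv
    rw [card_conj', card_cz]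
    exact hz
  · refine not_comm_of_card ?_ hx hxv
    rw [card_conj', hct]
    exact ht

/-- the order of `C(y)` is not divisible by 4 -/
theorem not_four {r : ℕ} (hr : r.Prime) (hr2 : r ≠ 2) (hz : ¬ r ∣ 2 ^ 25 * 4157776806543360000) (hna : NA r Spor.BabyMonster)
    {y : Gam} (hy : orderOf y = r) : ¬ 4 ∣ Nat.card (centralizer ({y} : Set Gam)) := by
  intro h4
  have h2F : Fact (Nat.Prime 2) := ⟨Nat.prime_two⟩
  have hFr : Fact r.Prime := ⟨hr⟩
  obtain ⟨t, ht2, hcl, hct, q, hqs, hqk⟩ := exists_cov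
  obtain ⟨T, hT⟩ := Sylow.exists_subgroup_card_pow_prime (G := centralizer ({y} : Set Gam)) 2 (n := 2)
    (by norm_num; exact h4)
  have hTc : IsMulCommutative T := IsPGroup.isMulCommutative_of_card_eq_prime_sq hT
  -- an involution `i` of `T`
  obtain ⟨i, hi⟩ := exists_prime_orderOf_dvd_card' (G := T) 2 (by rw [hT]; norm_num)
  set i' : Gam := ((i : centralizer ({y} : Set Gam)) : Gam) with hi'
  have hi'o : orderOf i' = 2 := by rw [hi', Subgroup.orderOf_coe, Subgroup.orderOf_coe, hi]
  have hiy : i' * y = y * i' := mem_centralizer_singleton_iff.1 (i : centralizer ({y} : Set Gam)).2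
  rcases hcl i' hi'o with ⟨g, hg⟩ | ⟨g, hg⟩
  · refine not_comm_of_card (t := i') ?_ hy hiy.symm
    rw [← hg, card_conj', card_cz]
    exact hz
  -- an element `j` of `T` not in `⟨i⟩`
  obtain ⟨j, hj⟩ : ∃ j : T, j ∉ zpowers i := by
    by_contra hcon
    push Not at hcon
    have h1 : zpowers i = ⊤ := eq_top_iff.2 fun j _ => hcon j
    have h2 : Nat.card (zpowers i) = 4 := by rw [h1, Subgroup.card_top, hT]; norm_num
    rw [Nat.card_zpowers, hi] at h2
    norm_num at h2
  set j' : Gam := ((j : centralizer ({y} : Set Gam)) : Gam) with hj'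
  have hjy : j' * y = y * j' := mem_centralizer_singleton_iff.1 (j : centralizer ({y} : Set Gam)).2
  have hji : j' * i' = i' * j' := by
    have h1 : j * i = i * j := hTc.is_comm.comm j i
    exact congrArg (fun a : T => ((a : centralizer ({y} : Set Gam)) : Gam)) h1
  have hj4 : j' ^ 4 = 1 := by
    have h1 : j ^ 4 = 1 := by
      have h2 : orderOf j ∣ 2 ^ 2 := by rw [← hT]; exact _root_.orderOf_dvd_natCard j
      exact orderOf_dvd_iff_pow_eq_one.1 h2
    have h3 := congrArg (fun a : T => ((a : centralizer ({y} : Set Gam)) : Gam)) h1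
    exact h3
  -- conjugate to `C(t)`
  have key : ∀ a : Gam, a * i' = i' * a → (g⁻¹ * a * g) ∈ centralizer ({t} : Set Gam) := by
    intro a ha
    rw [mem_centralizer_singleton_iff]
    calc g⁻¹ * a * g * t = g⁻¹ * (a * (g * t * g⁻¹)) * g := by group
      _ = g⁻¹ * (g * t * g⁻¹ * a) * g := by rw [hg, ha]
      _ = t * (g⁻¹ * a * g) := by group
  set y1 : centralizer ({t} : Set Gam) := ⟨g⁻¹ * y * g, key y hiy.symm⟩ with hy1
  set j1 : centralizer ({t} : Set Gam) := ⟨g⁻¹ * j' * g, key j' hji⟩ with hj1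
  have hcom : y1 * j1 = j1 * y1 := by
    apply Subtype.ext
    show g⁻¹ * y * g * (g⁻¹ * j' * g) = g⁻¹ * j' * g * (g⁻¹ * y * g)
    calc g⁻¹ * y * g * (g⁻¹ * j' * g) = g⁻¹ * (y * j') * g := by group
      _ = g⁻¹ * (j' * y) * g := by rw [hjy]
      _ = _ := by group
  have hoy : orderOf y1 = r := by
    rw [hy1, Subgroup.orderOf_mk]
    have h2 := order_conj g⁻¹ y
    rw [inv_inv] at h2
    rw [h2, hy]
  have hqy : orderOf (q y1) = r := by
    refine orderOf_eq_prime (by rw [← map_pow, ← hoy, pow_orderOf_eq_one, map_one]) fun h => ?_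
    rcases hqk _ h with h1 | h1
    · rw [h1, orderOf_one] at hoy
      exact hr.one_lt.ne hoy
    · rw [← Subgroup.orderOf_coe, h1, ht2] at hoy
      exact hr2 hoy.symm
  have hqj : q j1 ≠ 1 := by
    intro h
    rcases hqk _ h with h1 | h1
    · apply hj
      have h2 : g⁻¹ * j' * g = 1 := congrArg Subtype.val h1
      have h3 : j' = 1 := by
        calc j' = g * (g⁻¹ * j' * g) * g⁻¹ := by group
          _ = 1 := by rw [h2]; group
      have h4 : j = 1 := Subtype.ext (Subtype.ext h3)
      rw [h4]; exact one_mem _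
    · apply hj
      have h2 : g⁻¹ * j' * g = t := h1
      have h3 : j' = i' := by
        calc j' = g * (g⁻¹ * j' * g) * g⁻¹ := by group
          _ = i' := by rw [h2, hg]
      have h4 : j = i := Subtype.ext (Subtype.ext h3)
      rw [h4]; exact mem_zpowers i
  -- an involution of `B`
  have hj14 : (q j1) ^ 4 = 1 := by
    rw [← map_pow]
    have h1 : j1 ^ 4 = 1 := by
      apply Subtype.ext
      show (g⁻¹ * j' * g) ^ 4 = 1
      calc (g⁻¹ * j' * g) ^ 4 = g⁻¹ * j' ^ 4 * g := by simp only [pow_succ, pow_zero, one_mul]; group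
        _ = 1 := by rw [hj4]; group
    rw [h1, map_one]
  have hcomq : Commute (q y1) (q j1) := by
    show q y1 * q j1 = q j1 * q y1
    rw [← map_mul, ← map_mul, hcom]
  by_cases h2 : (q j1) ^ 2 = 1
  · exact hna (q y1) (q j1) hqy (orderOf_eq_prime h2 hqj) hcomq.eq
  · refine hna (q y1) (q j1 ^ 2) hqy (orderOf_eq_prime (by rw [← pow_mul]; exact hj14) h2) (hcomq.pow_right 2).eq

theorem na_b {r : ℕ} (hr : r.Prime) (hr2 : r ≠ 2) (h1 : ¬ r ∣ 306129918735099415756800)
    (h2 : ¬ r ∣ 2 ^ 25 * 4157776806543360000) : NA r Spor.BabyMonster := by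
  have hfin : Finite Spor.BabyMonster := Nat.finite_of_card_ne_zero (by rw [S1704.result.2]; norm_num)
  intro x t hx ht hxt
  have hd : r ∣ Nat.card (centralizer ({t} : Set Spor.BabyMonster)) := by
    rw [← hx, ← Subgroup.orderOf_mk x (mem_centralizer_singleton_iff.2 hxt)]
    exact _root_.orderOf_dvd_natCard _
  rcases H713.Spor.B.dvd_cases hr hr2 ht hd with h | h
  · exact h1 h
  · exact h2 h

/-- **Solvable centralizers.** -/
theorem solvable_m {r : ℕ} (hr : r ∈ [29, 31, 41, 47, 59, 71]) :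
    ∃ y : Gam, orderOf y = r ∧ Group.IsSolvable ↥(centralizer ({y} : Set Gam)) := by
  have k1 : ∀ {r : ℕ}, r.Prime → r ∣ 808017424794512875886459904961710757005754368000000000 →
      ¬ r ∣ 2 ^ 25 * 4157776806543360000 → ¬ r ∣ 2 * 4154781481226426191177580544000000 →
      ∃ y : Gam, orderOf y = r ∧ Group.IsSolvable ↥(centralizer ({y} : Set Gam)) := fun hr hd h1 h2 =>
    solv_of_na hr (by rw [card_G]; exact hd) (na_of h1 h2)
  have k2 : ∀ {r : ℕ}, r.Prime → r ≠ 2 → r ∣ 808017424794512875886459904961710757005754368000000000 →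
      ¬ r ∣ 2 ^ 25 * 4157776806543360000 → ¬ r ∣ 306129918735099415756800 →
      ∃ y : Gam, orderOf y = r ∧ Group.IsSolvable ↥(centralizer ({y} : Set Gam)) := by
    intro r hr hr2 hd h1 h2
    have hFr : Fact r.Prime := ⟨hr⟩
    obtain ⟨y, hy⟩ := exists_prime_orderOf_dvd_card' (G := Gam) r (by rw [card_G]; exact hd)
    exact ⟨y, hy, SylowL5.TypeAGen.isSolvable_of_not_four_dvd (not_four hr hr2 h1 (na_b hr hr2 h2 h1) hy)⟩
  simp only [List.mem_cons, List.not_mem_nil, or_false] at hr
  rcases hr with rfl | rfl | rfl | rfl | rfl | rfl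
  · exact k1 (by norm_num) (by norm_num) (by norm_num) (by norm_num)
  · exact k2 (by norm_num) (by norm_num) (by norm_num) (by norm_num) (by norm_num)
  · exact k1 (by norm_num) (by norm_num) (by norm_num) (by norm_num)
  · exact k2 (by norm_num) (by norm_num) (by norm_num) (by norm_num) (by norm_num)
  · exact k1 (by norm_num) (by norm_num) (by norm_num) (by norm_num)
  · exact k1 (by norm_num) (by norm_num) (by norm_num) (by norm_num)

/-! ### The row -/

theorem nc_seventeen (h3 : Three.{0}) {q : ℕ} (hq : q.Prime) (h17 : 17 ≠ q)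
    (hd : q ∣ 808017424794512875886459904961710757005754368000000000) (hqd : ¬ q ∣ 168 * 17) : NC 17 q Gam := by
  have hF : Fact (Nat.Prime 17) := ⟨by norm_num⟩
  obtain ⟨y, hy⟩ := exists_prime_orderOf_dvd_card' (G := Gam) 17 (by rw [card_G]; norm_num)
  exact nc_of_dvd hq h17 hy (a := 1) (n := 168 * 17) (by rw [pow_one, card_G]; exact hd) (card_seventeen h3 hy)
    (by rw [pow_one]; exact hqd)

theorem nc_mem {p : ℕ} (hp : p ∈ [3, 5, 7, 13]) {q : ℕ} (hq : q ∈ [3, 5, 7, 11, 13, 17, 19, 23, 29, 31, 41, 47, 59, 71])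
    (hpq : p ≠ q) : NC p q Gam := by
  simp only [List.mem_cons, List.not_mem_nil, or_false] at hp hq
  rcases hp with rfl | rfl | rfl | rfl
  · rcases hq with rfl | rfl | rfl | rfl | rfl | rfl | rfl | rfl | rfl | rfl | rfl | rfl | rfl | rfl
    · exact absurd rfl hpq
    all_goals exact nc_three (by simp)
  · rcases hq with rfl | rfl | rfl | rfl | rfl | rfl | rfl | rfl | rfl | rfl | rfl | rfl | rfl | rfl
    · exact (nc_three (by simp)).symm
    · exact absurd rfl hpq
    · exact nc_five' (by simp)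
    · exact nc_five' (by simp)
    · exact nc_five' (by simp)
    · exact nc_five' (by simp)
    · exact nc_five_nineteen
    all_goals exact nc_five' (by simp)
  · rcases hq with rfl | rfl | rfl | rfl | rfl | rfl | rfl | rfl | rfl | rfl | rfl | rfl | rfl | rfl
    · exact (nc_three (by simp)).symm
    · exact (nc_five' (by simp)).symm
    · exact absurd rfl hpq
    · exact nc_seven' (by simp)
    · exact nc_seven' (by simp)
    · exact nc_seven_seventeen
    all_goals exact nc_seven' (by simp)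
  · rcases hq with rfl | rfl | rfl | rfl | rfl | rfl | rfl | rfl | rfl | rfl | rfl | rfl | rfl | rfl
    · exact (nc_three (by simp)).symm
    · exact (nc_five' (by simp)).symm
    · exact (nc_seven' (by simp)).symm
    · exact nc_thirteen_eleven
    · exact absurd rfl hpq
    all_goals exact nc_thirteen (by simp)

theorem row_model (h3 : Three.{0}) : Row Gam := by
  refine row_of (N := 808017424794512875886459904961710757005754368000000000) (k := 46) card_G
    [3, 5, 7, 11, 13, 17, 19, 23, 29, 31, 41, 47, 59, 71] [3, 5, 7, 13] [29, 31, 41, 47, 59, 71] 11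
    [(17, 19), (17, 11), (17, 23), (11, 23)] ?_ ?_ ?_ ?_ ?_ ?_ ?_ ?_
  · intro q hq
    simp only [List.mem_cons, List.not_mem_nil, or_false] at hq
    rcases hq with rfl | rfl | rfl | rfl | rfl | rfl | rfl | rfl | rfl | rfl | rfl | rfl | rfl | rfl <;> norm_num
  · norm_num
  · intro q hq
    simp only [List.mem_cons, List.not_mem_nil, or_false] at hq
    rcases hq with rfl | rfl | rfl | rfl | rfl | rfl | rfl | rfl | rfl | rfl | rfl | rfl | rfl | rfl <;> norm_num
  · exact ab_of_not_cube (by norm_num) (by rw [card_G]; norm_num)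
  · exact fun p hp q hq hpq => nc_mem hp hq hpq
  · exact fun r hr => solvable_m hr
  · intro a ha
    simp only [List.mem_cons, List.not_mem_nil, or_false] at ha
    rcases ha with rfl | rfl | rfl | rfl
    · exact nc_seventeen h3 (by norm_num) (by norm_num) (by norm_num) (by norm_num)
    · exact nc_seventeen h3 (by norm_num) (by norm_num) (by norm_num) (by norm_num)
    · exact nc_seventeen h3 (by norm_num) (by norm_num) (by norm_num) (by norm_num)
    · exact nc_eleven_twentythree
  · decide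

/-- **The row of the Monster**, from S3331. -/
theorem row_m (h3 : Three.{0}) {G : Type*} [Group G] [Finite G] [IsSimpleGroup G] (h : Spor.IsoM G) : Row G := by
  obtain ⟨e⟩ := h
  obtain ⟨f⟩ := Cfsg.Agent.MonsterP.Equiv.equiv
  exact (row_model h3).congr (e.trans f).symm

end Cfsg.Agent.H241.Mon
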