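import Cfsg.Agent.H241.NHGenC
import Cfsg.Agent.H377.SporBThree
import Cfsg.Agent.BpRankZero.MRow
import Cfsg.Agent.CpAutMSeven.ZeroComps
import Cfsg.Agent.H393.Iso.Monster
import Cfsg.Agent.H393.Iso.Baby

/-!
# Row of the nilpotent Hall cluster: the Monster, basic facts (helper241)
-/

set_option autoImplicit false
set_option maxRecDepth 100000
open Subgroup

namespace Cfsg.Agent.H241.Mon

open Cfsg Cfsg.Agent.H630.NH Cfsg.Agent.H241.NH Cfsg.Agent.H393.Iso
open Cfsg.Agent.MonsterX Cfsg.Agent.MonsterX.InstData Cfsg.Agent.MonsterX.MainPack Cfsg.Agent.MonsterU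
open Cfsg.Agent.MonsterX.MainBasic Cfsg.Agent.MonsterX.MainSimple Cfsg.Agent.MonsterX.Model
open Cfsg.Agent.LThreeMB (fr XX KChart.Cent KChart.pi KChart.chart)
open Cfsg.Agent.MonsterU.Ch
open Cfsg.Spor (Co1)

/-- the model of the Monster -/
abbrev Gam : Type := ↥InstData.M.G

instance : Finite Gam := MThirteen.Row.finite

theorem card_G : Nat.card Gam = 808017424794512875886459904961710757005754368000000000 := MThirteen.Row.card_M

theorem hG : IsSimpleGroup Gam := MThirteen.Row.simple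

theorem chart : Ch.Chart KDone.K.ι.range KDone.K.z (LThreeMB.KChart.eta KDone.lft) (KChart.pi MFive.Row.hc) :=
  KChart.chart KDone.lft MFive.Row.hc

/-- `|C(z)|` -/
theorem card_cz : Nat.card (centralizer ({KDone.K.z} : Set Gam)) = 2 ^ 25 * 4157776806543360000 := by
  have h := H393.Iso.card_cz MonsterN.LitFin.all
  have hz : KDone.K.z = zG MonsterN.LitFin.all.hG := Subtype.ext KDone.lnk.z_eq.symm
  rw [hz]
  exact h

theorem card_XX {x : Gam} {r : ℕ} (hx : orderOf x = r) : Nat.card (centralizer ({x} : Set Gam)) = Nat.card (XX x) * r := by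
  rw [BpRankZero.Seven.card_cent, hx]

/-- an element of order 3 with `C(v)/⟨v⟩ ≅ Fi24'` -/
theorem exists_fi : ∃ v : centralizer ({KDone.K.z} : Set Gam), orderOf v = 3 ∧
    fr (KChart.pi MFive.Row.hc v) = 2 ^ 12 ∧ Spor.IsoFi24' (XX (v : Gam)) := by
  have := hG
  obtain ⟨s, hs, hfs, -⟩ := LThreeMB.CoOneFin.coOne.psu
  obtain ⟨x, hx, hxs⟩ := MFive.KPair.exists_order chart Nat.prime_three (by decide) hs
  have hfr : fr (KChart.pi MFive.Row.hc x) = 2 ^ 12 := by rw [hxs, hfs]
  exact ⟨x, hx, hfr, LThreeB.isoFi_of_inputs chart LThreeMB.CoOneFin.coOne hx hfr⟩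

/-- an element of order 3 with `C(v)/⟨v⟩ ≅ Th` -/
theorem exists_th : ∃ v : centralizer ({KDone.K.z} : Set Gam), orderOf v = 3 ∧
    fr (KChart.pi MFive.Row.hc v) = 2 ^ 8 ∧ Spor.IsoTh (XX (v : Gam)) := by
  have := hG
  obtain ⟨s, hs, hfs, -⟩ := LThreeMB.CoOneFin.coOne.nine
  obtain ⟨x, hx, hxs⟩ := MFive.KPair.exists_order chart Nat.prime_three (by decide) hs
  have hfr : fr (KChart.pi MFive.Row.hc x) = 2 ^ 8 := by rw [hxs, hfs]
  exact ⟨x, hx, hfr, LThreeB.isoTh_of_inputs chart LThreeMB.CoOneFin.coOne hx hfr⟩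

/-- an element of order 5 with `C(v)/⟨v⟩ ≅ HN` -/
theorem exists_hn : ∃ v : centralizer ({KDone.K.z} : Set Gam), orderOf v = 5 ∧
    fr (KChart.pi MFive.Row.hc v) = 2 ^ 8 ∧ Spor.IsoHN (XX (v : Gam)) := by
  have := hG
  have hs : orderOf (QuotientGroup.mk CoFive.Class.r8 : Co1) = 5 := by
    have : Fact (Nat.Prime 5) := ⟨Nat.prime_five⟩
    exact CpAutMSeven.Ranks.orderOf_mk (by norm_num) CoFive.Class.order_r8
  obtain ⟨x, hx, hxs⟩ := MFive.KPair.exists_order chart Nat.prime_five (by decide) hs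
  have hfr : fr (KChart.pi MFive.Row.hc x) = 2 ^ 8 := by rw [hxs, CoFive.Ranks.fr_r8]
  exact ⟨x, hx, hfr, MFiveHN.Closed.hnEight chart x hx hfr⟩

/-- an element of order 5 of fixed rank 0 -/
theorem exists_five_zero : ∃ v : centralizer ({KDone.K.z} : Set Gam), orderOf v = 5 ∧
    fr (KChart.pi MFive.Row.hc v) = 1 := by
  have hs : orderOf (QuotientGroup.mk CoFive.Class.r0 : Co1) = 5 := by
    have : Fact (Nat.Prime 5) := ⟨Nat.prime_five⟩
    exact CpAutMSeven.Ranks.orderOf_mk (by norm_num) CoFive.Class.order_r0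
  obtain ⟨x, hx, hxs⟩ := MFive.KPair.exists_order chart Nat.prime_five (by decide) hs
  exact ⟨x, hx, by rw [hxs, CoFive.Ranks.fr_r0]⟩

/-- an element of order 7 with `C(v)/⟨v⟩ ≅ He` -/
theorem exists_he : ∃ v : centralizer ({KDone.K.z} : Set Gam), orderOf v = 7 ∧ Spor.IsoHe (XX (v : Gam)) := by
  obtain ⟨r, hr, hfr⟩ := BpRankZero.MRow.exists_six
  exact ⟨r, hr, CpAutMSeven.ZeroComps.heSix r hr hfr⟩

theorem card_fi {X : Type*} [Group X] (h : Spor.IsoFi24' X) : Nat.card X = 1255205709190661721292800 := by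
  obtain ⟨e⟩ := h
  rw [Nat.card_congr e.toEquiv, S1698.result.2]

theorem card_th {X : Type*} [Group X] (h : Spor.IsoTh X) : Nat.card X = 90745943887872000 := by
  obtain ⟨e⟩ := h
  rw [Nat.card_congr e.toEquiv, S1700.result.2]

theorem card_hn {X : Type*} [Group X] (h : Spor.IsoHN X) : Nat.card X = 273030912000000 := by
  obtain ⟨e⟩ := h
  rw [Nat.card_congr e.toEquiv, S1701.result.2]

/-- **`(3, q)`** -/
theorem nc_three {q : ℕ} (hq : q ∈ [5, 7, 11, 13, 17, 19, 23, 29, 31, 41, 47, 59, 71]) : NC 3 q Gam := by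
  obtain ⟨v, hv, -, h⟩ := exists_fi
  obtain ⟨w, hw, -, h'⟩ := exists_th
  have hv' : orderOf (v : Gam) = 3 := by rw [Subgroup.orderOf_coe, hv]
  have hw' : orderOf (w : Gam) = 3 := by rw [Subgroup.orderOf_coe, hw]
  have h1 : Nat.card (centralizer ({(v : Gam)} : Set Gam)) = 1255205709190661721292800 * 3 := by
    rw [card_XX hv', card_fi h]
  have h2 : Nat.card (centralizer ({(w : Gam)} : Set Gam)) = 90745943887872000 * 3 := by
    rw [card_XX hw', card_th h']
  have k1 : ∀ {q a : ℕ}, q.Prime → 3 ≠ q → q ^ a ∣ 808017424794512875886459904961710757005754368000000000 →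
      ¬ q ^ a ∣ 1255205709190661721292800 * 3 → NC 3 q Gam := fun hq h3 ha hb =>
    nc_of_card hq h3 ⟨1, by rw [hv', pow_one]⟩ (by rw [card_G]; exact ha) (by rw [h1]; exact hb)
  have k2 : ∀ {q a : ℕ}, q.Prime → 3 ≠ q → q ^ a ∣ 808017424794512875886459904961710757005754368000000000 →
      ¬ q ^ a ∣ 90745943887872000 * 3 → NC 3 q Gam := fun hq h3 ha hb =>
    nc_of_card hq h3 ⟨1, by rw [hw', pow_one]⟩ (by rw [card_G]; exact ha) (by rw [h2]; exact hb)
  simp only [List.mem_cons, List.not_mem_nil, or_false] at hq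
  rcases hq with rfl | rfl | rfl | rfl | rfl | rfl | rfl | rfl | rfl | rfl | rfl | rfl | rfl
  · exact k1 (a := 9) (by norm_num) (by norm_num) (by norm_num) (by norm_num)
  · exact k1 (a := 6) (by norm_num) (by norm_num) (by norm_num) (by norm_num)
  · exact k1 (a := 2) (by norm_num) (by norm_num) (by norm_num) (by norm_num)
  · exact k1 (a := 3) (by norm_num) (by norm_num) (by norm_num) (by norm_num)
  · exact k2 (a := 1) (by norm_num) (by norm_num) (by norm_num) (by norm_num)
  · exact k1 (a := 1) (by norm_num) (by norm_num) (by norm_num) (by norm_num)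
  · exact k2 (a := 1) (by norm_num) (by norm_num) (by norm_num) (by norm_num)
  · exact k2 (a := 1) (by norm_num) (by norm_num) (by norm_num) (by norm_num)
  · exact k1 (a := 1) (by norm_num) (by norm_num) (by norm_num) (by norm_num)
  · exact k1 (a := 1) (by norm_num) (by norm_num) (by norm_num) (by norm_num)
  · exact k1 (a := 1) (by norm_num) (by norm_num) (by norm_num) (by norm_num)
  · exact k1 (a := 1) (by norm_num) (by norm_num) (by norm_num) (by norm_num)
  · exact k1 (a := 1) (by norm_num) (by norm_num) (by norm_num) (by norm_num)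

/-- **`(5, q)`**, `q ≠ 19` -/
theorem nc_five' {q : ℕ} (hq : q ∈ [7, 11, 13, 17, 23, 29, 31, 41, 47, 59, 71]) : NC 5 q Gam := by
  obtain ⟨v, hv, -, h⟩ := exists_hn
  have hv' : orderOf (v : Gam) = 5 := by rw [Subgroup.orderOf_coe, hv]
  have h1 : Nat.card (centralizer ({(v : Gam)} : Set Gam)) = 273030912000000 * 5 := by
    rw [card_XX hv', card_hn h]
  have k1 : ∀ {q a : ℕ}, q.Prime → 5 ≠ q → q ^ a ∣ 808017424794512875886459904961710757005754368000000000 →
      ¬ q ^ a ∣ 273030912000000 * 5 → NC 5 q Gam := fun hq h3 ha hb =>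
    nc_of_card hq h3 ⟨1, by rw [hv', pow_one]⟩ (by rw [card_G]; exact ha) (by rw [h1]; exact hb)
  simp only [List.mem_cons, List.not_mem_nil, or_false] at hq
  rcases hq with rfl | rfl | rfl | rfl | rfl | rfl | rfl | rfl | rfl | rfl | rfl
  · exact k1 (a := 6) (by norm_num) (by norm_num) (by norm_num) (by norm_num)
  · exact k1 (a := 2) (by norm_num) (by norm_num) (by norm_num) (by norm_num)
  all_goals exact k1 (a := 1) (by norm_num) (by norm_num) (by norm_num) (by norm_num)

/-- **`(7, q)`**, `q ≠ 17` -/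
theorem nc_seven' {q : ℕ} (hq : q ∈ [11, 13, 19, 23, 29, 31, 41, 47, 59, 71]) : NC 7 q Gam := by
  obtain ⟨v, hv, h⟩ := exists_he
  have hv' : orderOf (v : Gam) = 7 := by rw [Subgroup.orderOf_coe, hv]
  have h1 : Nat.card (centralizer ({(v : Gam)} : Set Gam)) = 4030387200 * 7 := by
    rw [card_XX hv', (BpRankZero.MRow.he_facts h).2]
  have k1 : ∀ {q a : ℕ}, q.Prime → 7 ≠ q → q ^ a ∣ 808017424794512875886459904961710757005754368000000000 →
      ¬ q ^ a ∣ 4030387200 * 7 → NC 7 q Gam := fun hq h3 ha hb =>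
    nc_of_card hq h3 ⟨1, by rw [hv', pow_one]⟩ (by rw [card_G]; exact ha) (by rw [h1]; exact hb)
  simp only [List.mem_cons, List.not_mem_nil, or_false] at hq
  rcases hq with rfl | rfl | rfl | rfl | rfl | rfl | rfl | rfl | rfl | rfl
  all_goals exact k1 (a := 1) (by norm_num) (by norm_num) (by norm_num) (by norm_num)

end Cfsg.Agent.H241.Mon
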