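import Cfsg.Agent.H241.NHMonB
import Cfsg.Agent.H794.MonCube
import Cfsg.Agent.OddOrderLocal.HallPi
import Cfsg.Agent.S0205

/-!
# Row of the nilpotent Hall cluster: the Monster, `p = 13`, general lemmas (helper241)

`x` of odd order, `z` the only involution of `C(x) ∩ C(z)` (helper794's `MonCore`).

* `not_dvd_cent` : `C(x) ∩ C(z)` contains a nonabelian 2-group, `q² ∤ |G|`, `q ∤ |C(x) ∩ C(z)|`: `q ∤ |C(x)|`;
* `comm_of_only` : a `p`-element `u` and a `q`-element `r` of `C(x)`, `u` normalizing `⟨r⟩`, `p, q ∤ |C(x) ∩ C(z)|`, commute;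
* `exists_frattini`.
-/

set_option autoImplicit false
open Subgroup
open scoped Pointwise

namespace Cfsg.Agent.H241.NH

open Cfsg.Agent.H630.NH Cfsg.Agent.H393.Iso Cfsg.Agent.H794 Cfsg.Agent.H794.MonCore

universe u

/-- **The Frattini argument**, `w` of order `r` commuting with `x`. -/
theorem exists_frattini {X : Type u} [Group X] [Finite X] {p r a : ℕ} (hp : p.Prime) (hr : r.Prime) (hpr : p ≠ r)
    {u x : X} (hu : ∃ k : ℕ, orderOf u = p ^ k) {m : ℕ} (hm : u * x * u⁻¹ = x ^ m)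
    (hne : u * x ≠ x * u) (hdiv : ∀ i, 1 ≤ i → i ≤ a → ¬ p ∣ r ^ i - 1) (hra : ¬ r ^ (a + 1) ∣ Nat.card X)
    {w : X} (hw : orderOf w = r) (hwx : w * x = x * w) :
    ∃ n : X, (∃ k : ℕ, orderOf n = p ^ k) ∧ n * w = w * n ∧ n * x * n⁻¹ ∈ zpowers x ∧ n * x ≠ x * n := by
  have hFp : Fact p.Prime := ⟨hp⟩
  have hFr : Fact r.Prime := ⟨hr⟩
  set N := normalizer ((zpowers x : Subgroup X) : Set X) with hN
  have huN : u ∈ N := mem_normalizer_of_pow hm
  let ψ : N →* MulAut (zpowers x) := Subgroup.normalizerMonoidHom (zpowers x)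
  have hwN : w ∈ N := mem_normalizer_of_pow (m := 1) (by rw [hwx, mul_inv_cancel_right, pow_one])
  have hwker : (⟨w, hwN⟩ : N) ∈ ψ.ker := normalizerHom_eq_one (n := ⟨w, hwN⟩) hwx
  set w' : ψ.ker := ⟨⟨w, hwN⟩, hwker⟩ with hw'
  have hwp : IsPGroup r (zpowers w') := IsPGroup.of_card (n := 1) (by
    rw [Nat.card_zpowers, pow_one, hw', Subgroup.orderOf_mk, Subgroup.orderOf_mk, hw])
  obtain ⟨P, hP⟩ := hwp.exists_le_sylow
  have hfr := Sylow.normalizer_sup_eq_top P
  set Ph : Subgroup N := (P : Subgroup ψ.ker).map ψ.ker.subtype with hPh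
  have hu' : (⟨u, huN⟩ : N) ∈ normalizer (Ph : Set N) ⊔ ψ.ker := by
    rw [hPh]
    have : (⟨u, huN⟩ : N) ∈ (⊤ : Subgroup N) := mem_top _
    rw [← hfr] at this
    exact this
  obtain ⟨n, hn, c, hc, hnc⟩ := Subgroup.mem_sup_of_normal_right.1 hu'
  have hψn : ψ n = ψ ⟨u, huN⟩ := by
    rw [← hnc, map_mul, (show ψ c = 1 from hc), mul_one]
  obtain ⟨k, hk⟩ := hu
  have hψk : (ψ n) ^ p ^ k = 1 := by
    rw [hψn, ← map_pow]
    have h1 : (⟨u, huN⟩ : N) ^ p ^ k = 1 := Subtype.ext (show u ^ p ^ k = 1 by rw [← hk, pow_orderOf_eq_one])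
    rw [h1, map_one]
  obtain ⟨j, ⟨b, hb⟩, hj⟩ := exists_ppart.{u, u} hp n
  have hψj := hj _ ψ k hψk
  set n' := n ^ j with hn'
  have hn'N : n' ∈ normalizer (Ph : Set N) := pow_mem hn j
  have hne' : ψ n' ≠ 1 := by
    rw [hψj, hψn]
    intro h
    exact hne (acts_of_normalizer h)
  -- `n'` centralizes `Ph`
  have hPhp : IsPGroup r Ph := P.2.map _
  obtain ⟨s, hs⟩ := IsPGroup.iff_card.1 hPhp
  have hsa : s ≤ a := by
    by_contra hlt
    apply hra
    refine (Nat.pow_dvd_pow r (not_le.1 hlt)).trans ?_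
    rw [← hs]
    exact (card_subgroup_dvd_card Ph).trans (card_subgroup_dvd_card N)
  have htriv := acts_trivially_pow (p := r) (q := p) (m := a) hpr hdiv hPhp (by
    rw [hs]; exact Nat.pow_dvd_pow r hsa) (u := n') (f := b) (by rw [← hb, pow_orderOf_eq_one])
    (fun g hg => (mem_normalizer_iff.1 hn'N g).1 hg)
  have hwPh : (⟨w, hwN⟩ : N) ∈ Ph := ⟨w', hP (mem_zpowers w'), rfl⟩
  have h2 : n' * ⟨w, hwN⟩ = ⟨w, hwN⟩ * n' := mul_inv_eq_iff_eq_mul.1 (htriv _ hwPh)
  refine ⟨(n' : X), ⟨b, by rw [Subgroup.orderOf_coe, hb]⟩, congrArg Subtype.val h2, ?_, ?_⟩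
  · exact (mem_normalizer_iff.1 n'.2 x).1 (mem_zpowers x)
  · intro h
    exact hne' (normalizerHom_eq_one h)

/-- commutators centralize a subgroup of prime order -/
theorem comm_of_prime {G : Type u} [Group G] [Finite G] {q : ℕ} (hq : q.Prime) {R : Subgroup G} (hR : Nat.card R = q)
    {k l : G} (hk : ∀ r ∈ R, k * r * k⁻¹ ∈ R) (hl : ∀ r ∈ R, l * r * l⁻¹ ∈ R) :
    ∀ r ∈ R, r * (k * l * k⁻¹ * l⁻¹) = k * l * k⁻¹ * l⁻¹ * r := by
  set K := normalizer (R : Set G) with hK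
  have hkK : k ∈ K := Transfer.FusionBasic.mem_normalizer_of_conj_mem hk
  have hlK : l ∈ K := Transfer.FusionBasic.mem_normalizer_of_conj_mem hl
  have hn : (R.subgroupOf K).Normal := Subgroup.normal_in_normalizer
  have hle : R ≤ K := Subgroup.le_normalizer
  have hc : Nat.card (R.subgroupOf K) = q := by
    rw [← hR]; exact Nat.card_congr (subgroupOfEquivOfLe hle).toEquiv
  have hz : (⟨k, hkK⟩ : K) * ⟨l, hlK⟩ * (⟨k, hkK⟩ : K)⁻¹ * (⟨l, hlK⟩ : K)⁻¹ ∈ commutator K :=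
    Subgroup.commutator_mem_commutator (H₁ := ⊤) (H₂ := ⊤) (mem_top (⟨k, hkK⟩ : K)) (mem_top (⟨l, hlK⟩ : K))
  intro r hr
  have h1 := comm_of_commutator hq hn hc hz ⟨r, hle hr⟩ (mem_subgroupOf.2 hr)
  exact congrArg Subtype.val h1

section

variable {G : Type u} [Group G] [Finite G] {x z : G}

/-- `q ∤ |C(x)|` -/
theorem not_dvd_cent {p : ℕ} {Q : Subgroup G} (hz : orderOf z = 2) (hx : Odd (orderOf x)) (hzx : z * x = x * z)
    (only : ∀ u : G, u * x = x * u → u * z = z * u → u * u = 1 → u = 1 ∨ u = z)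
    (q2 : IsPGroup 2 ↥Q) (qx : ∀ q ∈ Q, q * x = x * q) (qz : ∀ q ∈ Q, q * z = z * q) (zQ : z ∈ Q)
    (nc : ∃ k ∈ Q, ∃ l ∈ Q, k * l ≠ l * k) (hp : p.Prime) (hpG : ¬ p ^ 2 ∣ Nat.card G)
    (hpB : ¬ p ∣ Nat.card ↥(centralizer ({x} : Set G) ⊓ centralizer ({z} : Set G))) :
    ¬ p ∣ Nat.card ↥(centralizer ({x} : Set G)) := by
  intro hd
  have hFp : Fact p.Prime := ⟨hp⟩
  obtain ⟨N, hN⟩ := exists_cfg hz hx hzx only
  obtain ⟨R, hR, hQR⟩ := hN.exists_sylow_inv q2 qx zQ p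
  have hpN : p ∣ Nat.card N := by
    have h1 := hN.card_cent
    have h2 : p ∣ Nat.card ↥N * Nat.card ↥(centralizer ({x} : Set G) ⊓ centralizer ({z} : Set G)) := by
      rw [← h1]; exact Dvd.dvd.mul_right hd _
    exact (hp.dvd_mul.1 h2).resolve_right hpB
  have hRd : p ∣ Nat.card R := by
    have := hR.dvd 1 (by rwa [pow_one])
    rwa [pow_one] at this
  have hRc : Nat.card R = p := by
    obtain ⟨k, hk⟩ := IsPGroup.iff_card.1 hR.isP
    have h4 : k < 2 := by
      by_contra hk2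
      refine hpG ((Nat.pow_dvd_pow p (not_lt.1 hk2)).trans ?_)
      rw [← hk]; exact card_subgroup_dvd_card R
    rw [hk] at hRd ⊢
    interval_cases k
    · exact absurd (Nat.dvd_one.1 (by simpa using hRd)) hp.one_lt.ne'
    · exact pow_one p
  obtain ⟨k, hk, l, hl, hkl⟩ := nc
  have hwQ : k * l * k⁻¹ * l⁻¹ ∈ Q := mul_mem (mul_mem (mul_mem hk hl) (inv_mem hk)) (inv_mem hl)
  have hw1 : k * l * k⁻¹ * l⁻¹ ≠ 1 := by
    intro h1
    apply hkl
    rw [mul_inv_eq_one, mul_inv_eq_iff_eq_mul] at h1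
    exact h1
  have hcen := comm_of_prime hp hRc (hQR k hk) (hQR l hl)
  obtain ⟨m, hm⟩ := q2 ⟨_, hwQ⟩
  obtain ⟨j, hj⟩ := exists_pow_eq only (qx _ hwQ) (qz _ hwQ) hw1 (congrArg Subtype.val hm)
  apply hpB
  rw [← hRc]
  refine Subgroup.card_dvd_of_le fun r hr => mem_inf.2 ⟨mem_centralizer_singleton_iff.2 (hN.cx r (hR.le hr)),
    mem_centralizer_singleton_iff.2 ?_⟩
  have h2 := (show Commute r (k * l * k⁻¹ * l⁻¹) from hcen r hr).pow_right j
  rw [hj] at h2
  exact h2.eq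

/-- elements of `N` -/
theorem mem_of_cfg {N : Subgroup G} (hN : Cfg x z N) {p k : ℕ} (hp : p.Prime)
    (hpB : ¬ p ∣ Nat.card ↥(centralizer ({x} : Set G) ⊓ centralizer ({z} : Set G))) {w : G} (hw : orderOf w = p ^ k)
    (hwx : w * x = x * w) : w ∈ N := by
  set D := centralizer ({x} : Set G) with hD
  have hND : N ≤ D := fun n hn => mem_centralizer_singleton_iff.2 (hN.cx n hn)
  have hnor : (N.subgroupOf D).Normal := by
    constructor
    intro n hn d
    rw [mem_subgroupOf] at hn ⊢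
    exact hN.nor d (mem_centralizer_singleton_iff.1 d.2) n hn
  have h1 := hN.card_cent
  have h2 : Nat.card (N.subgroupOf D) = Nat.card N := Nat.card_congr (subgroupOfEquivOfLe hND).toEquiv
  have h3 := (N.subgroupOf D).card_mul_index
  rw [← hD, ← h3, h2, mul_assoc] at h1
  have h4 := Nat.eq_of_mul_eq_mul_left Nat.card_pos h1
  have h5 : (N.subgroupOf D).index ∣ Nat.card ↥(centralizer ({x} : Set G) ⊓ centralizer ({z} : Set G)) := ⟨_, h4.symm⟩
  set wD : D := ⟨w, mem_centralizer_singleton_iff.2 hwx⟩ with hwD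
  have h6 : orderOf (QuotientGroup.mk wD : D ⧸ N.subgroupOf D) ∣ p ^ k := by
    rw [← hw, ← Subgroup.orderOf_mk w (mem_centralizer_singleton_iff.2 hwx)]
    exact orderOf_map_dvd (QuotientGroup.mk' (N.subgroupOf D)) wD
  have h7 : orderOf (QuotientGroup.mk wD : D ⧸ N.subgroupOf D) ∣
      Nat.card ↥(centralizer ({x} : Set G) ⊓ centralizer ({z} : Set G)) := (_root_.orderOf_dvd_natCard _).trans h5
  obtain ⟨i, hi, hi'⟩ := (Nat.dvd_prime_pow hp).1 h6
  have h8 : i = 0 := by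
    by_contra h0
    apply hpB
    refine Dvd.dvd.trans ?_ h7
    rw [hi']
    exact dvd_pow_self p h0
  rw [h8, pow_zero, orderOf_eq_one_iff, QuotientGroup.eq_one_iff, mem_subgroupOf] at hi'
  exact hi'

/-- **A Hall `{p, q}`-subgroup of `N` is inverted by an involution.** -/
theorem comm_of_only (hz : orderOf z = 2) (hx : Odd (orderOf x)) (hzx : z * x = x * z)
    (only : ∀ u : G, u * x = x * u → u * z = z * u → u * u = 1 → u = 1 ∨ u = z)
    {p q : ℕ} (hp : p.Prime) (hq : q.Prime)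
    (hpB : ¬ p ∣ Nat.card ↥(centralizer ({x} : Set G) ⊓ centralizer ({z} : Set G)))
    (hqB : ¬ q ∣ Nat.card ↥(centralizer ({x} : Set G) ⊓ centralizer ({z} : Set G)))
    {u r : G} (hu : ∃ k : ℕ, orderOf u = p ^ k) (hr : ∃ k : ℕ, orderOf r = q ^ k) (hux : u * x = x * u)
    (hrx : r * x = x * r) (hur : u * r * u⁻¹ ∈ zpowers r) : u * r = r * u := by
  have hF2 : Fact (Nat.Prime 2) := ⟨Nat.prime_two⟩
  have hzz : z * z = 1 := by rw [← pow_two, ← hz, pow_orderOf_eq_one]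
  obtain ⟨N, hN⟩ := exists_cfg hz hx hzx only
  obtain ⟨a, hu⟩ := hu
  obtain ⟨b, hr⟩ := hr
  have huN := mem_of_cfg hN hp hpB hu hux
  have hrN := mem_of_cfg hN hq hqB hr hrx
  -- the group `L`
  have hzN : zpowers z ≤ normalizer (N : Set G) := by
    rw [zpowers_le]
    exact Transfer.FusionBasic.mem_normalizer_of_conj_mem (hN.nor z hzx)
  set L := N ⊔ zpowers z with hL
  have hNL : N ≤ L := le_sup_left
  have hzL : z ∈ L := mem_sup_right (mem_zpowers z)
  have hLn : L ≤ normalizer (N : Set G) := sup_le le_normalizer hzN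
  have hLx : ∀ g ∈ L, g * x = x * g := by
    have h1 : L ≤ centralizer ({x} : Set G) := by
      refine sup_le (fun n hn => mem_centralizer_singleton_iff.2 (hN.cx n hn)) ?_
      rw [zpowers_le]; exact mem_centralizer_singleton_iff.2 hzx
    exact fun g hg => mem_centralizer_singleton_iff.1 (h1 hg)
  have hNs : Group.IsSolvable N := S0205.result hN.odd
  have hsolv : Group.IsSolvable L := by
    have hNn : (N.subgroupOf L).Normal := normal_subgroupOf_of_le_normalizer hLn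
    have h1 : Group.IsSolvable (N.subgroupOf L) :=
      Group.isSolvable_of_surjective (f := (subgroupOfEquivOfLe hNL).symm.toMonoidHom)
        (subgroupOfEquivOfLe _).symm.surjective
    have h2 : ∀ g h : L ⧸ N.subgroupOf L, g * h = h * g := by
      -- generated by the image of `z`
      have h3 : ∀ g : L ⧸ N.subgroupOf L, ∃ i : ℤ, g = (QuotientGroup.mk ⟨z, hzL⟩ : L ⧸ N.subgroupOf L) ^ i := by
        intro g
        obtain ⟨g, rfl⟩ := QuotientGroup.mk_surjective g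
        have h4 : (g : G) ∈ N ⊔ zpowers z := g.2
        rw [← SetLike.mem_coe, coe_mul_of_right_le_normalizer_left N (zpowers z) hzN] at h4
        obtain ⟨n, hn, y, hy, hny⟩ := h4
        obtain ⟨i, hi⟩ := hy
        refine ⟨i, ?_⟩
        have h5 : g = (⟨n, hNL hn⟩ : L) * (⟨z, hzL⟩ : L) ^ i := by
          apply Subtype.ext
          rw [Subgroup.coe_mul, SubgroupClass.coe_zpow]
          show (g : G) = n * z ^ i
          rw [show z ^ i = y from hi]
          exact hny.symm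
        have h6 : (QuotientGroup.mk (⟨n, hNL hn⟩ : L) : L ⧸ N.subgroupOf L) = 1 :=
          (QuotientGroup.eq_one_iff _).2 (mem_subgroupOf.2 hn)
        rw [h5, QuotientGroup.mk_mul, h6, one_mul]
        rfl
      intro g h
      obtain ⟨i, rfl⟩ := h3 g
      obtain ⟨j, rfl⟩ := h3 h
      rw [← zpow_add, ← zpow_add, add_comm]
    have h3 : Group.IsSolvable (L ⧸ N.subgroupOf L) := Group.isSolvable_of_comm h2
    refine Group.isSolvable_of_ker_le_range (N.subgroupOf L).subtype (QuotientGroup.mk' (N.subgroupOf L)) ?_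
    rw [QuotientGroup.ker_mk', Subgroup.range_subtype]
  -- the Hall subgroup
  set uL : L := ⟨u, hNL huN⟩ with huL
  set rL : L := ⟨r, hNL hrN⟩ with hrL
  set X := zpowers rL ⊔ zpowers uL with hX
  have hXn : zpowers uL ≤ normalizer ((zpowers rL : Subgroup L) : Set L) := by
    rw [zpowers_le]
    refine Transfer.FusionBasic.mem_normalizer_of_conj_mem ?_
    rintro _ ⟨i, rfl⟩
    obtain ⟨j, hj⟩ := hur
    refine ⟨j * i, ?_⟩
    show rL ^ (j * i) = uL * rL ^ i * uL⁻¹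
    rw [← conj_zpow, zpow_mul]
    congr 1
    exact Subtype.ext hj
  have hXc : Nat.card X ∣ q ^ b * p ^ a := by
    have h1 := H278.ThompsonSurj.card_sup_mul hXn
    rw [← hX, Nat.card_zpowers, Nat.card_zpowers, huL, hrL, Subgroup.orderOf_mk, Subgroup.orderOf_mk, hu, hr] at h1
    exact ⟨_, h1.symm⟩
  have hXπ : ∀ l : ℕ, l.Prime → l ∣ Nat.card X → l ∈ ({2, p, q} : Set ℕ) := by
    intro l hl hd
    rcases hl.dvd_mul.1 (hd.trans hXc) with h | h
    · exact Or.inr (Or.inr ((Nat.prime_dvd_prime_iff_eq hl hq).1 (hl.dvd_of_dvd_pow h)))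
    · exact Or.inr (Or.inl ((Nat.prime_dvd_prime_iff_eq hl hp).1 (hl.dvd_of_dvd_pow h)))
  obtain ⟨K, hK1, hK2, hXK⟩ := Cfsg.Agent.OddOrderLocal.HallPi.exists_hall_ge_top ({2, p, q} : Set ℕ) hXπ
  have h2K : 2 ∣ Nat.card K := by
    have h1 : 2 ∣ Nat.card L := by
      rw [← hz, ← Subgroup.orderOf_mk z hzL]; exact _root_.orderOf_dvd_natCard _
    rw [← K.card_mul_index] at h1
    exact (Nat.prime_two.dvd_mul.1 h1).resolve_right (hK2 2 Nat.prime_two (Or.inl rfl))
  obtain ⟨s, hs⟩ := exists_prime_orderOf_dvd_card' (G := K) 2 h2K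
  set s' : G := ((s : L) : G) with hs'
  have hs'o : orderOf s' = 2 := by rw [hs', Subgroup.orderOf_coe, Subgroup.orderOf_coe, hs]
  have hss : s' * s' = 1 := by rw [← pow_two, ← hs'o, pow_orderOf_eq_one]
  have hs'L : s' ∈ L := (s : L).2
  have hs'N : s' ∉ N := by
    intro h
    have h1 : orderOf (⟨s', h⟩ : N) ∣ Nat.card N := _root_.orderOf_dvd_natCard _
    rw [Subgroup.orderOf_mk, hs'o] at h1
    exact (Nat.not_even_iff_odd.2 hN.odd) (even_iff_two_dvd.2 h1)
  have hzsN : z * s' ∈ N := by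
    have h4 : s' ∈ N ⊔ zpowers z := hs'L
    rw [← SetLike.mem_coe, coe_mul_of_right_le_normalizer_left N (zpowers z) hzN] at h4
    obtain ⟨n, hn, y, hy, hny⟩ := h4
    obtain ⟨i, hi⟩ := hy
    have hny' : n * y = s' := hny
    have hi' : z ^ i = y := hi
    rcases Int.even_or_odd i with he | ho
    · exfalso
      apply hs'N
      obtain ⟨j, rfl⟩ := he
      have h5 : y = 1 := by
        rw [← hi', ← two_mul, zpow_mul, zpow_ofNat, pow_two, hzz, one_zpow]
      rw [← hny', h5, mul_one]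
      exact hn
    · obtain ⟨j, rfl⟩ := ho
      have h5 : y = z := by
        rw [← hi', zpow_add, zpow_one, zpow_mul, zpow_ofNat, pow_two, hzz, one_zpow, one_mul]
      rw [← hny', h5]
      have h6 := hN.nor z hzx n hn
      rwa [inv_eq_of_mul_eq_one_left hzz, mul_assoc] at h6
  obtain ⟨g, hg, hgs⟩ := conj_of_odd hzz hss (by
    have h1 : orderOf (⟨z * s', hzsN⟩ : N) ∣ Nat.card N := _root_.orderOf_dvd_natCard _
    rw [Subgroup.orderOf_mk] at h1
    exact hN.odd.of_dvd_nat h1)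
  have hgN : g ∈ N := (zpowers_le.2 hzsN) hg
  -- `H = K ∩ N`
  set H : Subgroup G := K.map L.subtype ⊓ N with hH
  have hinv : ∀ h ∈ H, s' * h * s'⁻¹ ∈ H := by
    rintro h ⟨⟨k, hk, rfl⟩, hkN⟩
    refine ⟨⟨(s : L) * k * (s : L)⁻¹, mul_mem (mul_mem s.2 hk) (inv_mem s.2), rfl⟩, ?_⟩
    exact (mem_normalizer_iff.1 (hLn hs'L) _).1 hkN
  let φ : H →* H :=
    { toFun := fun h => ⟨s' * h * s'⁻¹, hinv h h.2⟩
      map_one' := Subtype.ext (by show s' * ((1 : H) : G) * s'⁻¹ = 1; rw [Subgroup.coe_one]; group)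
      map_mul' := fun h k => Subtype.ext (by
        show s' * ((h * k : H) : G) * s'⁻¹ = (s' * h * s'⁻¹) * (s' * k * s'⁻¹)
        rw [Subgroup.coe_mul]; group) }
  have hinvo : Function.Involutive φ := by
    intro h
    apply Subtype.ext
    show s' * (s' * h * s'⁻¹) * s'⁻¹ = h
    have h1 : s'⁻¹ = s' := inv_eq_of_mul_eq_one_left hss
    rw [h1]
    calc s' * (s' * (h : G) * s') * s' = (s' * s') * h * (s' * s') := by group
      _ = h := by rw [hss, one_mul, mul_one]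
  have hfree : MonoidHom.FixedPointFree φ := by
    intro h hh
    by_contra h1
    have h2 : s' * (h : G) * s'⁻¹ = h := congrArg Subtype.val hh
    have h3 : (g * (h : G) * g⁻¹) * z = z * (g * (h : G) * g⁻¹) := by
      rw [← hgs]
      calc g * (h : G) * g⁻¹ * (g * s' * g⁻¹) = g * (h * s') * g⁻¹ := by group
        _ = g * (s' * h) * g⁻¹ := by rw [mul_inv_eq_iff_eq_mul.1 h2]
        _ = g * s' * g⁻¹ * (g * (h : G) * g⁻¹) := by group
    have hhN : (h : G) ∈ N := h.2.2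
    have h4 : (g * (h : G) * g⁻¹) * x = x * (g * (h : G) * g⁻¹) :=
      hN.cx _ (mul_mem (mul_mem hgN hhN) (inv_mem hgN))
    have h5 : orderOf (h : G) ∣ Nat.card ↥(centralizer ({x} : Set G) ⊓ centralizer ({z} : Set G)) := by
      have h6 := MulEquiv.orderOf_eq (MulAut.conj g) (h : G)
      rw [MulAut.conj_apply] at h6
      rw [← h6, ← Subgroup.orderOf_mk _ (mem_inf.2 ⟨mem_centralizer_singleton_iff.2 h4,
        mem_centralizer_singleton_iff.2 h3⟩)]
      exact _root_.orderOf_dvd_natCard _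
    have h6 : orderOf (h : G) ≠ 1 := by
      rw [Ne, orderOf_eq_one_iff]
      exact fun h7 => h1 (Subtype.ext h7)
    obtain ⟨l, hl, hld⟩ := Nat.exists_prime_and_dvd h6
    obtain ⟨⟨k, hk, hkh⟩, -⟩ := h.2
    have h7 : l ∣ Nat.card K := by
      refine hld.trans ?_
      rw [← hkh]
      show orderOf (k : G) ∣ _
      rw [Subgroup.orderOf_coe, ← Subgroup.orderOf_mk k hk]
      exact _root_.orderOf_dvd_natCard _
    have h8 : l ∣ Nat.card N := by
      refine hld.trans ?_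
      rw [← Subgroup.orderOf_mk _ hhN]
      exact _root_.orderOf_dvd_natCard _
    rcases hK1 l hl h7 with rfl | rfl | rfl
    · exact (Nat.not_even_iff_odd.2 hN.odd) (even_iff_two_dvd.2 h8)
    · exact hpB (hld.trans h5)
    · exact hqB (hld.trans h5)
  have huH : u ∈ H := ⟨⟨uL, hXK (mem_sup_right (mem_zpowers uL)), rfl⟩, huN⟩
  have hrH : r ∈ H := ⟨⟨rL, hXK (mem_sup_left (mem_zpowers rL)), rfl⟩, hrN⟩
  have := hfree.commute_all_of_involutive hinvo ⟨u, huH⟩ ⟨r, hrH⟩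
  exact congrArg Subtype.val this.eq

end

end Cfsg.Agent.H241.NH
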