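import Cfsg.Agent.H241.NHMonF
import Cfsg.Agent.H241.NHMonC
import Cfsg.Agent.H794.MonThirteen

/-!
# Row of the nilpotent Hall cluster: the Monster, `p = 13` (helper241)

* `nc_thirteen` : `(13, q)`, `q ≥ 17`;
* `nc_thirteen_eleven` : `(13, 11)`.
-/

set_option autoImplicit false
set_option maxRecDepth 100000
open Subgroup

namespace Cfsg.Agent.H241.Mon

open Cfsg Cfsg.Agent.H630.NH Cfsg.Agent.H241.NH Cfsg.Agent.H393.Iso
open Cfsg.Agent.MonsterX Cfsg.Agent.MonsterX.InstData Cfsg.Agent.MonsterX.MainPack Cfsg.Agent.MonsterU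
open Cfsg.Agent.MonsterX.MainBasic Cfsg.Agent.MonsterX.MainSimple Cfsg.Agent.MonsterX.Model
open Cfsg.Agent.LThreeMB (fr XX KChart.Cent KChart.pi KChart.chart)
open Cfsg.Agent.MonsterU.Ch
open Cfsg.Agent.CoOneType.ClosingFacts (mk mk_mul mk_eq_one neg_eq)
open Cfsg.Spor (Co1)
open Cfsg.Agent.H794.MonLift Cfsg.Agent.H794.MonThirteen

/-- **The configuration.** -/
theorem exists_thirteen : ∃ (x : centralizer ({KDone.K.z} : Set Gam)) (Q : Subgroup Gam), orderOf x = 13 ∧
    (∀ t : Gam, t * x = x * t → t * KDone.K.z = KDone.K.z * t → t * t = 1 → t = 1 ∨ t = KDone.K.z) ∧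
    IsPGroup 2 ↥Q ∧ (∀ q ∈ Q, q * (x : Gam) = x * q) ∧ (∀ q ∈ Q, q * KDone.K.z = KDone.K.z * q) ∧ KDone.K.z ∈ Q ∧
    ∃ k ∈ Q, ∃ l ∈ Q, k * l ≠ l * k := by
  have hc := MFive.Row.hc
  have h := KChart.chart KDone.lft hc
  have h13 : Nat.Prime 13 := by norm_num
  obtain ⟨x, hx, hxs⟩ := MFive.KPair.exists_order h h13 (by decide) orderOf_s
  have hx13 : x ^ 13 = 1 := by rw [← hx, pow_orderOf_eq_one]
  have hfr : fr (KChart.pi hc x) = 1 := BpMon.Thirteen.fr_pi KDone.lft hc hx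
  have only : ∀ t : Gam, t * x = x * t → t * KDone.K.z = KDone.K.z * t → t * t = 1 → t = 1 ∨ t = KDone.K.z := by
    intro t htx htz htt
    by_cases ht : t = 1
    · exact Or.inl ht
    · right
      exact BpMon.Thirteen.only_inv KDone.lft hc (x := x) (t := ⟨t, mem_centralizer_singleton_iff.2 htz⟩) hx
        (Subtype.ext htt) (fun h1 => ht (congrArg Subtype.val h1)) (Subtype.ext htx.symm)
  obtain ⟨k, hk, hkm⟩ := exists_mem h h13 (by decide) hx13 (V := V) b_mem (by rw [hxs]; exact bs)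
  obtain ⟨l, hl, hlm⟩ := exists_mem h h13 (by decide) hx13 (V := V) c_mem (by rw [hxs]; exact cs)
  exact ⟨x, H794.MonLift.lft (KChart.pi hc) x V, hx, only, isPGroup_lft h (by decide) hx13 hfr fun v hv => V_sq hv,
    fun q hq => lft_x hq, fun q hq => lft_z hq, z_mem h, ⟨k, hkm, l, hlm, not_comm h hx13 hfr only hk hl (lft_x hkm)
      (lft_x hlm)⟩⟩

theorem z_order : orderOf (KDone.K.z : Gam) = 2 := by
  have : Fact (Nat.Prime 2) := ⟨Nat.prime_two⟩
  exact orderOf_eq_prime (by rw [pow_two]; exact chart.large.z_sq) chart.large.z_ne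

/-- the primes dividing `|C(x) ∩ C(z)|`, `x` of order 13 -/
theorem not_dvd_inf {x : centralizer ({KDone.K.z} : Set Gam)} (hx : orderOf x = 13) {q : ℕ} (hq : q.Prime) (h5 : 5 ≤ q)
    (h13 : q ≠ 13) :
    ¬ q ∣ Nat.card ↥(centralizer ({(x : Gam)} : Set Gam) ⊓ centralizer ({KDone.K.z} : Set Gam)) := by
  intro hd
  have hFq : Fact q.Prime := ⟨hq⟩
  have hc := MFive.Row.hc
  have h := KChart.chart KDone.lft hc
  obtain ⟨w, hw⟩ := exists_prime_orderOf_dvd_card' q hd
  have hw1 := mem_inf.1 w.2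
  have hwo : orderOf (w : Gam) = q := by rw [Subgroup.orderOf_coe, hw]
  set w' : centralizer ({KDone.K.z} : Set Gam) := ⟨w, hw1.2⟩ with hw'
  have hw'o : orderOf w' = q := by rw [hw', Subgroup.orderOf_mk, hwo]
  have hodd : Odd q := hq.odd_of_ne_two (by omega)
  have hcom : w' * x = x * w' := Subtype.ext (mem_centralizer_singleton_iff.1 hw1.1)
  have hpx := MFive.orderOf_pi h (by norm_num) (by decide) hx
  have hpw := MFive.orderOf_pi h hq hodd hw'o
  obtain ⟨a, ha, ha13, hao⟩ := BpSpor.MBigCo.exists_lift_thirteen hpx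
  obtain ⟨b, hb, hbq⟩ := LThreeBX.NoSeven.exists_odd (n := q) hodd
    (show (KChart.pi hc w') ^ q = 1 by rw [← hpw, pow_orderOf_eq_one])
  have hbo : orderOf b = q := by
    refine orderOf_eq_prime hbq ?_
    rintro rfl
    have h1 : KChart.pi hc w' = 1 := hb.symm
    rw [h1, orderOf_one] at hpw
    exact hq.one_lt.ne hpw
  have hab : a * b = b * a := LThreeBX.NoSeven.comm_of_mk (n := 13) (by decide) ha13 (by
    rw [ha, hb, ← map_mul, ← map_mul, hcom])
  refine BpSpor.MBigCo.not_dvd_thirteen hao hq h5 h13 ?_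
  rw [← hbo, ← Subgroup.orderOf_mk b (mem_centralizer_singleton_iff.2 hab.symm)]
  exact _root_.orderOf_dvd_natCard _

/-- **`(13, q)`**, `q ≥ 17` -/
theorem nc_thirteen {q : ℕ} (hq : q ∈ [17, 19, 23, 29, 31, 41, 47, 59, 71]) : NC 13 q Gam := by
  obtain ⟨x, Q, hx, only, q2, qx, qz, zQ, nc⟩ := exists_thirteen
  have hx' : orderOf (x : Gam) = 13 := by rw [Subgroup.orderOf_coe, hx]
  have key : ∀ q : ℕ, q.Prime → 17 ≤ q → q ∣ Nat.card Gam → ¬ q ^ 2 ∣ Nat.card Gam → NC 13 q Gam := by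
    intro q hq h17 hd hd2
    refine nc_of_card (a := 1) hq (by omega) ⟨1, by rw [hx', pow_one]⟩ (by rw [pow_one]; exact hd) ?_
    rw [pow_one]
    exact not_dvd_cent (z := KDone.K.z) z_order (by rw [hx']; decide)
      (mem_centralizer_singleton_iff.1 x.2).symm only q2 qx qz zQ nc hq hd2 (not_dvd_inf hx hq (by omega) (by omega))
  simp only [List.mem_cons, List.not_mem_nil, or_false] at hq
  rcases hq with rfl | rfl | rfl | rfl | rfl | rfl | rfl | rfl | rfl
  all_goals exact key _ (by norm_num) (by norm_num) (by rw [card_G]; norm_num) (by rw [card_G]; norm_num)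

/-! ### `(5, 11)` and `(11, 23)` -/

section fi

open Cfsg.Agent.R08.FiTwentyFour (L finite_Fi24)
open Cfsg.Agent.Lib.PermNet Cfsg.Agent.Lib.PermNetPt Cfsg.Agent.Fischer.Fi24RepDef Cfsg.Agent.Fischer.Fi24Rep
open Cfsg.Agent.KFacts.FiTF.Pts Cfsg.Agent.KFacts.FiTF.FixMask Cfsg.Agent.H843.Fi24N Cfsg.Agent.H843.Pat
open Cfsg.Agent.H353.NHFiTF
open Cfsg.Spor (Fi24)
open Cfsg.Spor.Fi24 (Gen)

theorem fr_five_eleven : Fr 5 11 Spor.Fi24' := by
  have := finite_Fi24
  have hx : H843.D11.D.x ∈ commutator Fi24 := mem_commutator (by rw [H843.D11.order]; decide)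
  have hg : word H843.D11.w9 ∈ commutator Fi24 := mem_commutator (by rw [H843.D11.order9]; decide)
  refine ⟨⟨_, hg⟩, ⟨_, hx⟩, by rw [Subgroup.orderOf_mk, H843.D11.order9], by rw [Subgroup.orderOf_mk, H843.D11.order],
    ⟨9, Subtype.ext H843.D11.conj9⟩, ?_⟩
  intro h
  have h1 : word H843.D11.w9 * H843.D11.D.x = H843.D11.D.x * word H843.D11.w9 := congrArg Subtype.val h
  apply H843.D11.pow9
  rw [← H843.D11.conj9, h1, mul_inv_cancel_right]

theorem fr_eleven_twentythree : Fr 11 23 Spor.Fi24' := by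
  have := finite_Fi24
  have hFp : Fact (Nat.Prime 11) := ⟨by norm_num⟩
  obtain ⟨n, hn⟩ := exists_prime_orderOf_dvd_card' (G := normalizer (zpowers H843.D23.D.x : Set Fi24)) 11
    (by rw [H843.D23.main.1]; norm_num)
  have hx : H843.D23.D.x ∈ commutator Fi24 := mem_commutator (by rw [H843.D23.order]; decide)
  have hno : orderOf (n : Fi24) = 11 := by rw [Subgroup.orderOf_coe, hn]
  have hg : (n : Fi24) ∈ commutator Fi24 := mem_commutator (by rw [hno]; decide)
  obtain ⟨i, hi⟩ := (Submonoid.mem_powers_iff _ _).1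
    (mem_powers_iff_mem_zpowers.2 ((mem_normalizer_iff.1 n.2 H843.D23.D.x).1 (mem_zpowers _)))
  refine ⟨⟨_, hg⟩, ⟨_, hx⟩, by rw [Subgroup.orderOf_mk, hno], by rw [Subgroup.orderOf_mk, H843.D23.order],
    ⟨i, Subtype.ext hi.symm⟩, ?_⟩
  intro h
  have h1 : (n : Fi24) * H843.D23.D.x = H843.D23.D.x * n := congrArg Subtype.val h
  have h2 : (n : Fi24) ∈ centralizer (zpowers H843.D23.D.x : Set Fi24) := H843.Cyc.mem_centralizer_zpowers.2 h1
  have h3 : 11 ∣ Nat.card (centralizer (zpowers H843.D23.D.x : Set Fi24)) := by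
    rw [← hno, ← Subgroup.orderOf_mk _ h2]
    exact _root_.orderOf_dvd_natCard _
  rw [H843.D23.main.2] at h3
  norm_num at h3

end fi

theorem mk_ker {v : Gam} {q : ℕ} (hv : orderOf v = 3) (hq : q.Prime) (hq3 : q ≠ 3) :
    ¬ q ∣ Nat.card (QuotientGroup.mk' (LThreeMB.Zx v)).ker := by
  rw [QuotientGroup.ker_mk']
  have h7 : Nat.card (LThreeMB.Zx v) = 3 := by
    show Nat.card (zpowers (LThreeMB.self v)) = 3
    rw [Nat.card_zpowers, ← hv]
    exact Subgroup.orderOf_mk v _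
  rw [h7]
  exact fun h => hq3 ((Nat.prime_dvd_prime_iff_eq hq Nat.prime_three).1 h)

/-- from `Fi24'` to the Monster -/
theorem frk_of_fi {p q : ℕ} (hp : p.Prime) (hq : q.Prime) (hq3 : q ≠ 3) (h : Frk p q Spor.Fi24') : Frk p q Gam := by
  obtain ⟨v, hv, -, ⟨e⟩⟩ := exists_fi
  have hv' : orderOf (v : Gam) = 3 := by rw [Subgroup.orderOf_coe, hv]
  exact (Frk.lift hp hq (QuotientGroup.mk' (LThreeMB.Zx (v : Gam))) (QuotientGroup.mk'_surjective _)
    (mk_ker hv' hq hq3) (h.congr e.symm)).sub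

theorem frk_five_eleven : Frk 5 11 Gam := frk_of_fi (by norm_num) (by norm_num) (by norm_num) fr_five_eleven.frk

/-- **`(11, 23)`** -/
theorem nc_eleven_twentythree : NC 11 23 Gam :=
  (frk_of_fi (by norm_num) (by norm_num) (by norm_num) fr_eleven_twentythree.frk).nc (by norm_num) (by norm_num)

/-- **`(13, 11)`** -/
theorem nc_thirteen_eleven : NC 13 11 Gam := by
  intro hc
  have hFp : Fact (Nat.Prime 13) := ⟨by norm_num⟩
  obtain ⟨x, Q, hx, only, -⟩ := exists_thirteen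
  have hx' : orderOf (x : Gam) = 13 := by rw [Subgroup.orderOf_coe, hx]
  obtain ⟨u, y, hu, hy, ⟨m, hm⟩, hne⟩ := frk_five_eleven
  have h1 : ¬ 13 ∣ (centralizer ({y} : Set Gam)).index :=
    hc 11 (by simp) 13 (by simp) (by norm_num) y ⟨1, by rw [hy, pow_one]⟩
  -- a conjugate of `x` commutes with `y`
  obtain ⟨P, hP⟩ := H630.CLib.exists_sylow_le 13 _ h1
  have hxp : IsPGroup 13 (zpowers (x : Gam)) := IsPGroup.of_card (n := 1) (by rw [Nat.card_zpowers, hx', pow_one])
  obtain ⟨R, hR⟩ := hxp.exists_le_sylow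
  obtain ⟨g, hg⟩ := MulAction.exists_smul_eq Gam R P
  have hgx : g * (x : Gam) * g⁻¹ ∈ centralizer ({y} : Set Gam) := by
    apply hP
    rw [← hg]
    exact Subgroup.smul_mem_pointwise_smul (x : Gam) (MulAut.conj g) (R : Subgroup Gam) (hR (mem_zpowers _))
  have hgy := mem_centralizer_singleton_iff.1 hgx
  -- Frattini
  obtain ⟨n, hn, hnw, hny, hne'⟩ := exists_frattini (p := 5) (r := 13) (a := 3) (by norm_num) (by norm_num) (by norm_num)
    hu hm hne (by
      intro i h1 h2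
      interval_cases i <;> norm_num) (by rw [card_G]; norm_num) (w := g * (x : Gam) * g⁻¹) (by rw [order_conj, hx']) hgy
  apply hne'
  -- conjugate
  have key := comm_of_only (x := (x : Gam)) (z := KDone.K.z) z_order (by rw [hx']; decide)
    (mem_centralizer_singleton_iff.1 x.2).symm only (p := 5) (q := 11) (by norm_num) (by norm_num)
    (not_dvd_inf hx (by norm_num) (by norm_num) (by norm_num)) (not_dvd_inf hx (by norm_num) (by norm_num) (by norm_num))
    (u := g⁻¹ * n * g) (r := g⁻¹ * y * g) (by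
      obtain ⟨k, hk⟩ := hn
      refine ⟨k, ?_⟩
      have h2 := order_conj g⁻¹ n
      rw [inv_inv] at h2
      rw [h2, hk]) ⟨1, by
      have h2 := order_conj g⁻¹ y
      rw [inv_inv] at h2
      rw [h2, hy, pow_one]⟩ (by
      calc g⁻¹ * n * g * x = g⁻¹ * (n * (g * x * g⁻¹)) * g := by group
        _ = g⁻¹ * (g * x * g⁻¹ * n) * g := by rw [hnw]
        _ = x * (g⁻¹ * n * g) := by group) (by
      calc g⁻¹ * y * g * x = g⁻¹ * (y * (g * x * g⁻¹)) * g := by group
        _ = g⁻¹ * (g * x * g⁻¹ * y) * g := by rw [hgy]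
        _ = x * (g⁻¹ * y * g) := by group) (by
      obtain ⟨i, hi⟩ := hny
      have hi : y ^ i = n * y * n⁻¹ := hi
      refine ⟨i, ?_⟩
      show (g⁻¹ * y * g) ^ i = _
      have h2 : (g⁻¹ * y * g) ^ i = g⁻¹ * y ^ i * g := by
        have := conj_zpow (i := i) (a := g⁻¹) (b := y)
        rw [inv_inv] at this
        exact this
      rw [h2, hi]; group)
  calc n * y = g * ((g⁻¹ * n * g) * (g⁻¹ * y * g)) * g⁻¹ := by group
    _ = g * ((g⁻¹ * y * g) * (g⁻¹ * n * g)) * g⁻¹ := by rw [key]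
    _ = y * n := by group

end Cfsg.Agent.H241.Mon
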