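import Cfsg.Agent.H630.Cross
import Cfsg.Agent.H545.PQ.RowTool
import Cfsg.Agent.OddOrderLocal.HallPi

/-!
# Rows of the nilpotent Hall cluster: tools for groups with few primes (helper241)

* `NC p q X` : `¬ Cond {p, q} X`;
* `nc_of_card`, `nc_of_dvd` : from the order of the centralizer of one element;
* `nc_of_act` : a `p`-element normalizing and not centralizing a cyclic `q`-subgroup;
* `nc_of_group` : a `p`-subgroup whose centralizer is a `q'`-group;
* `Cyc p0 π X` : the Sylow subgroups of `X` for the primes of `π` other than `p0` have prime order, those for `p0` are abelian;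
* `exists_pair` : the abelian Hall subgroup for two primes;
* `exists_of_solvable` : the abelian Hall `π`-subgroup if some `C(x)`, `orderOf x ∈ π`, is solvable;
* `row_of` : the assembly.
-/

set_option autoImplicit false
open Subgroup
open scoped commutatorElement

namespace Cfsg.Agent.H241.NH

open Cfsg.Agent.H630.NH

universe u v

/-- no condition for the pair -/
def NC (p q : ℕ) (X : Type u) [Group X] : Prop := ¬ Cond {p, q} X

theorem NC.symm {p q : ℕ} {X : Type u} [Group X] (h : NC p q X) : NC q p X := by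
  rw [NC, Set.pair_comm]; exact h

theorem NC.congr {p q : ℕ} {X : Type u} {Y : Type v} [Group X] [Group Y] (e : X ≃* Y) (h : NC p q X) : NC p q Y :=
  fun hc => h (hc.congr e.symm)

theorem NC.not {p q : ℕ} {X : Type u} [Group X] (h : NC p q X) {π : Set ℕ} (hp : p ∈ π) (hq : q ∈ π) : ¬ Cond π X :=
  fun hc => h (hc.mono (by rintro s (rfl | rfl) <;> assumption))

section

variable {X : Type u} [Group X] {p q : ℕ}

theorem nc_of_index (hpq : p ≠ q) {x : X} (hx : ∃ k : ℕ, orderOf x = p ^ k)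
    (h : q ∣ (centralizer ({x} : Set X)).index) : NC p q X :=
  fun hc => hc p (by simp) q (by simp) hpq x hx h

/-- the order of the centralizer of a `p`-element has not the full `q`-part -/
theorem nc_of_card [Finite X] (hq : q.Prime) (hpq : p ≠ q) {x : X} (hx : ∃ k : ℕ, orderOf x = p ^ k) {a : ℕ}
    (h : q ^ a ∣ Nat.card X) (h' : ¬ q ^ a ∣ Nat.card (centralizer ({x} : Set X))) : NC p q X := by
  refine nc_of_index hpq hx ?_
  by_contra hd
  apply h'
  have h1 := (centralizer ({x} : Set X)).card_mul_index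
  rw [← h1] at h
  exact Nat.Coprime.dvd_of_dvd_mul_right (Nat.Coprime.pow_left a ((Nat.Prime.coprime_iff_not_dvd hq).2 hd)) h

/-- the same with an upper bound of the order of the centralizer -/
theorem nc_of_dvd [Finite X] (hq : q.Prime) (hpq : p ≠ q) {x : X} (hx : orderOf x = p) {a n : ℕ}
    (h : q ^ a ∣ Nat.card X) (hn : Nat.card (centralizer ({x} : Set X)) ∣ n) (h' : ¬ q ^ a ∣ n) : NC p q X :=
  nc_of_card hq hpq ⟨1, by rw [hx, pow_one]⟩ h fun hd => h' (hd.trans hn)

/-- no element of order `q` commutes with `x` -/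
theorem nc_of_elem [Finite X] (hq : q.Prime) (hpq : p ≠ q) (hd : q ∣ Nat.card X) {x : X} (hx : orderOf x = p)
    (h : ∀ y : X, orderOf y = q → x * y ≠ y * x) : NC p q X := by
  have : Fact q.Prime := ⟨hq⟩
  refine nc_of_card (a := 1) hq hpq ⟨1, by rw [hx, pow_one]⟩ (by rwa [pow_one]) ?_
  rw [pow_one]
  intro h1
  obtain ⟨u, hu⟩ := exists_prime_orderOf_dvd_card' q h1
  exact h u (by rw [Subgroup.orderOf_coe, hu]) (mem_centralizer_singleton_iff.1 u.2).symm

/-- a `p`-element normalizing and not centralizing a cyclic `q`-subgroup -/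
theorem nc_of_act [Finite X] (hp : p.Prime) (hpq : p ≠ q) {u y : X} (hu : ∃ k : ℕ, orderOf u = p ^ k)
    (hy : ∃ k : ℕ, orderOf y = q ^ k) {m : ℕ} (hm : u * y * u⁻¹ = y ^ m) (hne : u * y ≠ y * u) : NC p q X := by
  intro hc
  have : Fact p.Prime := ⟨hp⟩
  have h1 : ¬ p ∣ (centralizer ({y} : Set X)).index := hc q (by simp) p (by simp) hpq.symm y hy
  set C := centralizer ({y} : Set X) with hC
  set N := normalizer ((zpowers y : Subgroup X) : Set X) with hN
  have hCN : C ≤ N := by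
    intro g hg
    rw [hC, mem_centralizer_singleton_iff] at hg
    rw [hN, mem_normalizer_iff]
    intro b
    have key : ∀ i : ℤ, g * y ^ i * g⁻¹ = y ^ i := fun i => by
      have h2 : Commute g (y ^ i) := (show Commute g y from hg).zpow_right i
      rw [h2.eq, mul_inv_cancel_right]
    constructor
    · rintro ⟨i, rfl⟩
      exact ⟨i, (key i).symm⟩
    · rintro ⟨i, hi⟩
      refine ⟨i, ?_⟩
      have h3 : g * y ^ i * g⁻¹ = g * b * g⁻¹ := (key i).trans hi
      exact mul_left_cancel (mul_right_cancel h3)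
  have huN : u ∈ N := by
    have hle : (zpowers y).map (MulAut.conj u).toMonoidHom ≤ zpowers y := by
      rw [MonoidHom.map_zpowers, zpowers_le]
      show u * y * u⁻¹ ∈ _
      rw [hm]
      exact pow_mem (mem_zpowers y) m
    have heq : (zpowers y).map (MulAut.conj u).toMonoidHom = zpowers y := by
      refine Subgroup.eq_of_le_of_card_ge hle ?_
      rw [Subgroup.card_map_of_injective (MulAut.conj u).injective]
    rw [hN, mem_normalizer_iff]
    intro b
    constructor
    · intro hb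
      rw [← heq]
      exact ⟨b, hb, rfl⟩
    · intro hb
      rw [← heq] at hb
      obtain ⟨c, hc, hcb⟩ := hb
      have : c = b := (MulAut.conj u).injective hcb
      rwa [← this]
  have hCn : (C.subgroupOf N).Normal := by
    constructor
    rintro ⟨c, hc⟩ hcC ⟨n, hn⟩
    rw [mem_subgroupOf] at hcC ⊢
    rw [hC, mem_centralizer_singleton_iff] at hcC ⊢
    show n * c * n⁻¹ * y = y * (n * c * n⁻¹)
    have hn' : n⁻¹ ∈ N := inv_mem hn
    have h2 : n⁻¹ * y * n⁻¹⁻¹ ∈ zpowers y := ((mem_normalizer_iff.1 hn') y).1 (mem_zpowers y)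
    obtain ⟨i, hi⟩ := h2
    have h3 : Commute c (y ^ i) := (show Commute c y from hcC).zpow_right i
    have h4 : y = n * y ^ i * n⁻¹ := by
      have : y ^ i = n⁻¹ * y * n⁻¹⁻¹ := hi
      rw [this]; group
    rw [h4]
    calc n * c * n⁻¹ * (n * y ^ i * n⁻¹) = n * (c * y ^ i) * n⁻¹ := by group
      _ = n * (y ^ i * c) * n⁻¹ := by rw [h3.eq]
      _ = n * y ^ i * n⁻¹ * (n * c * n⁻¹) := by group
  have h2 : ¬ p ∣ (C.subgroupOf N).index := fun hd => h1 (hd.trans (relIndex_dvd_index_of_le hCN))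
  have h3 : (⟨u, huN⟩ : N) ∈ C.subgroupOf N := by
    obtain ⟨k, hk⟩ := hu
    have h4 : ((⟨u, huN⟩ : N) : N) ^ (C.subgroupOf N).index ∈ C.subgroupOf N := pow_index_mem _ _
    have h5 : (⟨u, huN⟩ : N) ^ (p ^ k) = 1 := by
      apply Subtype.ext
      show u ^ (p ^ k) = 1
      rw [← hk, pow_orderOf_eq_one]
    have h6 : Nat.Coprime (C.subgroupOf N).index (p ^ k) :=
      (Nat.Coprime.pow_left k ((Nat.Prime.coprime_iff_not_dvd hp).2 h2)).symm
    have h7 : (⟨u, huN⟩ : N) ^ (p ^ k) ∈ C.subgroupOf N := by rw [h5]; exact one_mem _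
    have h8 := Nat.gcd_eq_gcd_ab (C.subgroupOf N).index (p ^ k)
    rw [h6] at h8
    have h9 : (⟨u, huN⟩ : N) = ((⟨u, huN⟩ : N) ^ (C.subgroupOf N).index) ^ ((C.subgroupOf N).index.gcdA (p ^ k)) *
        ((⟨u, huN⟩ : N) ^ (p ^ k)) ^ ((C.subgroupOf N).index.gcdB (p ^ k)) := by
      rw [← zpow_natCast, ← zpow_natCast, ← zpow_mul, ← zpow_mul, ← zpow_add, ← h8, Nat.cast_one, zpow_one]
    rw [h9]
    exact mul_mem (zpow_mem h4 _) (zpow_mem h7 _)
  apply hne
  exact mem_centralizer_singleton_iff.1 (mem_subgroupOf.1 h3)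

/-- a `p`-subgroup whose centralizer is a `q'`-group -/
theorem nc_of_group [Finite X] (hp : p.Prime) (hq : q.Prime) (hpq : p ≠ q) (hd : q ∣ Nat.card X) (A : Subgroup X)
    (hA : IsPGroup p A) (h : ∀ y : X, orderOf y = q → (∀ a ∈ A, a * y = y * a) → False) : NC p q X := by
  have : Fact p.Prime := ⟨hp⟩
  have : Fact q.Prime := ⟨hq⟩
  exact not_cond_of_centralizer (π := {p, q}) (by simp) (by simp) hpq hd A hA h

/-- every `p`-element commutes with an element of order `q` -/
theorem exists_comm [Finite X] (hp : p.Prime) (hq : q.Prime) (hpq : p ≠ q) (hd : q ∣ Nat.card X)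
    (hc : Cond {p, q} X) (A : Subgroup X) (hA : IsPGroup p A) : ∃ y : X, orderOf y = q ∧ ∀ a ∈ A, a * y = y * a := by
  by_contra hcon
  push Not at hcon
  refine nc_of_group hp hq hpq hd A hA (fun y hy h => ?_) hc
  obtain ⟨a, ha, h1⟩ := hcon y hy
  exact h1 (h a ha)

end

/-! ### Abelian Hall subgroups -/

/-- abelian Sylow `p`-subgroups -/
def Ab (p : ℕ) (X : Type u) [Group X] : Prop := ∀ P : Sylow p X, IsMulCommutative (P : Subgroup X)

theorem Ab.congr {p : ℕ} {X : Type u} {Y : Type v} [Group X] [Group Y] (e : X ≃* Y) (h : Ab p X) : Ab p Y := by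
  intro P
  have h1 : IsPGroup p ((P : Subgroup Y).map (e.symm : Y →* X)) := P.2.map _
  obtain ⟨Q, hQ⟩ := h1.exists_le_sylow
  have hc := (h Q).is_comm.comm
  refine ⟨⟨fun a b => Subtype.ext ?_⟩⟩
  have ha : e.symm a ∈ (Q : Subgroup X) := hQ (mem_map_of_mem (e.symm : Y →* X) a.2)
  have hb : e.symm b ∈ (Q : Subgroup X) := hQ (mem_map_of_mem (e.symm : Y →* X) b.2)
  have h2 : e.symm (a : Y) * e.symm (b : Y) = e.symm (b : Y) * e.symm (a : Y) :=
    congrArg Subtype.val (hc ⟨_, ha⟩ ⟨_, hb⟩)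
  rw [← map_mul, ← map_mul] at h2
  exact e.symm.injective h2

theorem ab_of_not_cube {p : ℕ} (hp : p.Prime) {X : Type u} [Group X] [Finite X] (h : ¬ p ^ 3 ∣ Nat.card X) : Ab p X :=
  have : Fact p.Prime := ⟨hp⟩
  fun P => H545.PQ.comm_of_not_cube h P

section

variable {X : Type u} [Group X] [Finite X]

theorem not_dvd_index_of_mem {q : ℕ} (hq : q.Prime) (hq2 : ¬ q ^ 2 ∣ Nat.card X) {y : X} (hy : orderOf y = q)
    {T : Subgroup X} (hT : y ∈ T) : ¬ q ∣ T.index := by
  intro hd
  apply hq2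
  rw [← T.card_mul_index, pow_two]
  refine Nat.mul_dvd_mul ?_ hd
  rw [← hy, ← Subgroup.orderOf_mk y hT]
  exact orderOf_dvd_natCard _

/-- **The abelian Hall subgroup for two primes.** -/
theorem exists_pair {p q : ℕ} (hp : p.Prime) (hq : q.Prime) (hpq : p ≠ q) (hd : q ∣ Nat.card X)
    (hq2 : ¬ q ^ 2 ∣ Nat.card X) (hab : Ab p X) {π : Set ℕ} (hpπ : p ∈ π) (hqπ : q ∈ π) (hπ : ∀ s ∈ π, s = p ∨ s = q)
    (hc : Cond π X) : ∃ T : Subgroup X, IsMulCommutative T ∧ ∀ s ∈ π, ¬ s ∣ T.index := by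
  have : Fact p.Prime := ⟨hp⟩
  have : Fact q.Prime := ⟨hq⟩
  obtain ⟨y, hy⟩ := exists_prime_orderOf_dvd_card' q hd
  have h1 : ¬ p ∣ (centralizer ({y} : Set X)).index := hc q hqπ p hpπ hpq.symm y ⟨1, by rw [hy, pow_one]⟩
  obtain ⟨P, hP⟩ := H630.CLib.exists_sylow_le p _ h1
  have hPc := (hab P).is_comm.comm
  refine ⟨closure ((P : Set X) ∪ {y}), ?_, ?_⟩
  · refine Subgroup.isMulCommutative_closure ?_
    rintro a (ha | ha) b (hb | hb)
    · exact congrArg Subtype.val (hPc ⟨a, ha⟩ ⟨b, hb⟩)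
    · rw [Set.mem_singleton_iff.1 hb]; exact mem_centralizer_singleton_iff.1 (hP ha)
    · rw [Set.mem_singleton_iff.1 ha]; exact (mem_centralizer_singleton_iff.1 (hP hb)).symm
    · rw [Set.mem_singleton_iff.1 ha, Set.mem_singleton_iff.1 hb]
  · intro s hs
    rcases hπ s hs with rfl | rfl
    · intro hd
      refine P.not_dvd_index (hd.trans (index_dvd_of_le ?_))
      exact fun a ha => subset_closure (Or.inl ha)
    · exact not_dvd_index_of_mem hq hq2 hy (subset_closure (Or.inr rfl))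

end

/-! ### The solvable case -/

section

variable {X : Type u} [Group X]

/-- an element normalizing `⟨y⟩`, of order prime to the class size of `y`, centralizes `y` -/
theorem comm_of_coprime [Finite X] {y n : X} (hn : n * y * n⁻¹ ∈ zpowers y)
    (hco : Nat.Coprime (orderOf n) (centralizer ({y} : Set X)).index) : n * y = y * n := by
  set C := centralizer ({y} : Set X) with hC
  set N := normalizer ((zpowers y : Subgroup X) : Set X) with hN
  have hCN : C ≤ N := by
    intro g hg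
    rw [hC, mem_centralizer_singleton_iff] at hg
    rw [hN, mem_normalizer_iff]
    intro b
    have key : ∀ i : ℤ, g * y ^ i * g⁻¹ = y ^ i := fun i => by
      have h2 : Commute g (y ^ i) := (show Commute g y from hg).zpow_right i
      rw [h2.eq, mul_inv_cancel_right]
    constructor
    · rintro ⟨i, rfl⟩
      exact ⟨i, (key i).symm⟩
    · rintro ⟨i, hi⟩
      refine ⟨i, ?_⟩
      have h3 : g * y ^ i * g⁻¹ = g * b * g⁻¹ := (key i).trans hi
      exact mul_left_cancel (mul_right_cancel h3)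
  have huN : n ∈ N := by
    have hle : (zpowers y).map (MulAut.conj n).toMonoidHom ≤ zpowers y := by
      rw [MonoidHom.map_zpowers, zpowers_le]
      exact hn
    have heq : (zpowers y).map (MulAut.conj n).toMonoidHom = zpowers y := by
      refine Subgroup.eq_of_le_of_card_ge hle ?_
      rw [Subgroup.card_map_of_injective (MulAut.conj n).injective]
    rw [hN, mem_normalizer_iff]
    intro b
    constructor
    · intro hb
      rw [← heq]
      exact ⟨b, hb, rfl⟩
    · intro hb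
      rw [← heq] at hb
      obtain ⟨c, hc, hcb⟩ := hb
      have : c = b := (MulAut.conj n).injective hcb
      rwa [← this]
  have hCn : (C.subgroupOf N).Normal := by
    constructor
    rintro ⟨c, hc⟩ hcC ⟨g, hg⟩
    rw [mem_subgroupOf] at hcC ⊢
    rw [hC, mem_centralizer_singleton_iff] at hcC ⊢
    show g * c * g⁻¹ * y = y * (g * c * g⁻¹)
    have hg' : g⁻¹ ∈ N := inv_mem hg
    have h2 : g⁻¹ * y * g⁻¹⁻¹ ∈ zpowers y := ((mem_normalizer_iff.1 hg') y).1 (mem_zpowers y)
    obtain ⟨i, hi⟩ := h2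
    have h3 : Commute c (y ^ i) := (show Commute c y from hcC).zpow_right i
    have h4 : y = g * y ^ i * g⁻¹ := by
      have : y ^ i = g⁻¹ * y * g⁻¹⁻¹ := hi
      rw [this]; group
    rw [h4]
    calc g * c * g⁻¹ * (g * y ^ i * g⁻¹) = g * (c * y ^ i) * g⁻¹ := by group
      _ = g * (y ^ i * c) * g⁻¹ := by rw [h3.eq]
      _ = g * y ^ i * g⁻¹ * (g * c * g⁻¹) := by group
  have h3 : (⟨n, huN⟩ : N) ∈ C.subgroupOf N := by
    have h4 : ((⟨n, huN⟩ : N) : N) ^ (C.subgroupOf N).index ∈ C.subgroupOf N := pow_index_mem _ _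
    have h5 : (⟨n, huN⟩ : N) ^ (orderOf n) = 1 := Subtype.ext (pow_orderOf_eq_one n)
    have h6 : Nat.gcd (C.subgroupOf N).index (orderOf n) = 1 :=
      (Nat.Coprime.coprime_dvd_right (relIndex_dvd_index_of_le hCN) hco).symm
    have h7 : (⟨n, huN⟩ : N) ^ (orderOf n) ∈ C.subgroupOf N := by rw [h5]; exact one_mem _
    have h8 := Nat.gcd_eq_gcd_ab (C.subgroupOf N).index (orderOf n)
    rw [h6] at h8
    have h9 : (⟨n, huN⟩ : N) = ((⟨n, huN⟩ : N) ^ (C.subgroupOf N).index) ^ ((C.subgroupOf N).index.gcdA (orderOf n)) *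
        ((⟨n, huN⟩ : N) ^ (orderOf n)) ^ ((C.subgroupOf N).index.gcdB (orderOf n)) := by
      rw [← zpow_natCast, ← zpow_natCast, ← zpow_mul, ← zpow_mul, ← zpow_add, ← h8, Nat.cast_one, zpow_one]
    rw [h9]
    exact mul_mem (zpow_mem h4 _) (zpow_mem h7 _)
  exact mem_centralizer_singleton_iff.1 (mem_subgroupOf.1 h3)

/-- a subgroup containing, for every prime divisor of the index, ... is everything -/
theorem eq_top_of_forall [Finite X] {Z : Subgroup X} (h : ∀ r : ℕ, r.Prime → r ∣ Nat.card X → ¬ r ∣ Z.index) : Z = ⊤ := by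
  rw [← index_eq_one]
  by_contra hne
  obtain ⟨r, hr, hd⟩ := Nat.exists_prime_and_dvd hne
  exact h r hr (hd.trans (index_dvd_card Z)) hd

/-- **A Hall `π`-subgroup is abelian.** -/
theorem comm_of_hall [Finite X] {p0 : ℕ} {π : Set ℕ} (hπ : ∀ p ∈ π, p.Prime) (hab : Ab p0 X)
    (hsq : ∀ q ∈ π, q ≠ p0 → ¬ q ^ 2 ∣ Nat.card X) (hc : Cond π X) (H : Subgroup X)
    (h1 : ∀ p : ℕ, p.Prime → p ∣ Nat.card H → p ∈ π) (h2 : ∀ p ∈ π, ¬ p ∣ H.index) : IsMulCommutative H := by
  have hsqH : ∀ q ∈ π, q ≠ p0 → ¬ q ^ 2 ∣ Nat.card H := fun q hq hq0 hd => hsq q hq hq0 (hd.trans (card_subgroup_dvd_card H))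
  -- class sizes
  have hcls : ∀ q ∈ π, q ≠ p0 → ∀ y : X, orderOf y = q → ∀ p ∈ π, ¬ p ∣ (centralizer ({y} : Set X)).index := by
    intro q hq hq0 y hy p hp
    by_cases hpq : q = p
    · subst hpq
      exact not_dvd_index_of_mem (hπ q hq) (hsq q hq hq0) hy (mem_centralizer_singleton_iff.2 rfl)
    · exact hc q hq p hp hpq y ⟨1, by rw [hy, pow_one]⟩
  -- Burnside
  have hB : ∀ q ∈ π, q ≠ p0 → q ∣ Nat.card H → ¬ q ∣ Nat.card (commutator H) := by
    intro q hq hq0 hqd
    have : Fact q.Prime := ⟨hπ q hq⟩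
    obtain ⟨Q⟩ : Nonempty (Sylow q H) := inferInstance
    obtain ⟨y, hy⟩ := exists_prime_orderOf_dvd_card' (G := (Q : Subgroup H)) q (by
      by_contra hd
      have h3 := Q.not_dvd_index
      rw [← (Q : Subgroup H).card_mul_index] at hqd
      rcases (hπ q hq).dvd_mul.1 hqd with h | h
      · exact hd h
      · exact h3 h)
    have hyX : orderOf ((y : H) : X) = q := by rw [Subgroup.orderOf_coe, Subgroup.orderOf_coe, hy]
    have hQc : Nat.card (Q : Subgroup H) = q := by
      obtain ⟨k, hk⟩ := IsPGroup.iff_card.1 Q.2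
      have h3 : q ^ k ∣ Nat.card H := by rw [← hk]; exact card_subgroup_dvd_card _
      have h4 : k < 2 := by
        by_contra hk2
        exact hsqH q hq hq0 ((Nat.pow_dvd_pow q (not_lt.1 hk2)).trans h3)
      have h5 : q ∣ q ^ k := by
        have h6 := orderOf_dvd_natCard y
        rw [hy] at h6
        rwa [hk] at h6
      interval_cases k
      · exact absurd (Nat.dvd_one.1 (by simpa using h5)) (hπ q hq).one_lt.ne'
      · simpa using hk
    have hgen : ∀ z ∈ (Q : Subgroup H), ((z : H) : X) ∈ zpowers (((y : H) : X)) := by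
      intro z hz
      have h3 : (zpowers y) = ⊤ := by
        rw [← card_eq_iff_eq_top, Nat.card_zpowers, hy, hQc]
      have h4 : (⟨z, hz⟩ : (Q : Subgroup H)) ∈ zpowers y := by rw [h3]; trivial
      obtain ⟨i, hi⟩ := h4
      exact ⟨i, by
        have h5 : ((y ^ i : (Q : Subgroup H)) : H) = z := congrArg Subtype.val hi
        show (((y : H) : X)) ^ i = z
        rw [← h5]; rfl⟩
    have hNC : normalizer ((Q : Subgroup H) : Set H) ≤ centralizer ((Q : Subgroup H) : Set H) := by
      intro n hn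
      rw [mem_centralizer_iff]
      intro z hz
      have h3 : (n : X) * ((y : H) : X) * (n : X)⁻¹ ∈ zpowers (((y : H) : X)) :=
        hgen (n * y * n⁻¹) (((mem_normalizer_iff.1 hn) y).1 y.2)
      have h4 : (n : X) * ((y : H) : X) = ((y : H) : X) * n := by
        refine comm_of_coprime h3 ?_
        refine Nat.coprime_of_dvd fun p hp hp1 hp2 => ?_
        have h5 : p ∈ π := h1 p hp (hp1.trans (by rw [Subgroup.orderOf_coe]; exact orderOf_dvd_natCard n))
        exact hcls q hq hq0 _ hyX p h5 hp2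
      obtain ⟨i, hi⟩ := hgen z hz
      have h5 : Commute (n : X) ((((y : H) : X)) ^ i) := (show Commute (n : X) ((y : H) : X) from h4).zpow_right i
      have hi' : (((y : H) : X)) ^ i = z := hi
      rw [hi'] at h5
      exact Subtype.ext h5.eq.symm
    have h3 := MonoidHom.not_dvd_card_ker_transferSylow Q hNC
    intro hd
    refine h3 (hd.trans (card_dvd_of_le ?_))
    rw [commutator_eq_closure, closure_le]
    rintro _ ⟨a, b, rfl⟩
    rw [SetLike.mem_coe, MonoidHom.mem_ker, map_commutatorElement]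
    have hcyc : IsCyclic (Q : Subgroup H) := isCyclic_of_prime_card hQc
    have hcm : IsMulCommutative (Q : Subgroup H) := inferInstance
    exact commutatorElement_eq_one_iff_mul_comm.2 (hcm.is_comm.comm _ _)
  -- the commutator subgroup
  have hB' : ∀ r : ℕ, r.Prime → r ∣ Nat.card (commutator H) → r = p0 := by
    intro r hr hd
    by_contra hne
    have hdH := hd.trans (card_subgroup_dvd_card (commutator H))
    exact hB r (h1 r hr hdH) hne hdH hd
  by_cases hbot : commutator H = ⊥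
  · refine ⟨⟨fun a b => ?_⟩⟩
    have h3 : ⁅a, b⁆ ∈ commutator H := commutator_mem_commutator (mem_top a) (mem_top b)
    rw [hbot, mem_bot] at h3
    exact commutatorElement_eq_one_iff_mul_comm.1 h3
  obtain ⟨r, hr, hrd⟩ := Nat.exists_prime_and_dvd (fun h => hbot (card_eq_one.1 h))
  obtain rfl := hB' r hr hrd
  have : Fact r.Prime := ⟨hr⟩
  have hrH : r ∣ Nat.card H := hrd.trans (card_subgroup_dvd_card (commutator H))
  have hrπ : r ∈ π := h1 r hr hrH
  have hH'p : IsPGroup r (commutator H) := by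
    rw [IsPGroup.iff_card]
    exact ⟨_, Nat.eq_prime_pow_of_unique_prime_dvd Nat.card_pos.ne' fun {d} hd1 hd2 => hB' d hd1 hd2⟩
  obtain ⟨P, hP⟩ := hH'p.exists_le_sylow
  have hPn : (P : Subgroup H).Normal := by
    constructor
    intro a ha g
    have h3 : ⁅g, a⁆ ∈ (P : Subgroup H) := hP (commutator_mem_commutator (mem_top g) (mem_top a))
    have h4 : g * a * g⁻¹ = ⁅g, a⁆ * a := by rw [commutatorElement_def]; group
    rw [h4]
    exact mul_mem h3 ha
  set PX : Subgroup X := (P : Subgroup H).map H.subtype with hPX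
  have hPXi : ¬ r ∣ PX.index := by
    rw [hPX, index_map_subtype]
    intro hd
    rcases hr.dvd_mul.1 hd with h | h
    · exact P.not_dvd_index h
    · exact h2 r hrπ h
  have hPXp : IsPGroup r PX := P.2.map _
  have hPab : ∀ a ∈ PX, ∀ b ∈ PX, a * b = b * a := by
    intro a ha b hb
    have h3 := (hab (hPXp.toSylow hPXi)).is_comm.comm ⟨a, ha⟩ ⟨b, hb⟩
    exact congrArg Subtype.val h3
  -- elements of order `q` centralize `P`
  have hcent : ∀ q ∈ π, q ≠ r → ∀ y : H, orderOf y = q → ∀ b ∈ PX, (y : X) * b = b * y := by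
    intro q hq hq0 y hy b hb
    have hqf : Fact q.Prime := ⟨hπ q hq⟩
    have hyX : orderOf (y : X) = q := by rw [Subgroup.orderOf_coe, hy]
    obtain ⟨P1, hP1⟩ := H630.CLib.exists_sylow_le r _ (hcls q hq hq0 _ hyX r hrπ)
    obtain ⟨g, hg⟩ := MulAction.exists_smul_eq X P1 (hPXp.toSylow hPXi)
    have hy' : ∀ c ∈ PX, (g * y * g⁻¹) * c = c * (g * y * g⁻¹) := by
      intro c hc'
      have h3 : c ∈ ((g • P1 : Sylow r X) : Subgroup X) := by rw [hg]; exact hc'
      rw [Sylow.coe_subgroup_smul, Subgroup.mem_smul_pointwise_iff_exists] at h3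
      obtain ⟨d, hd, rfl⟩ := h3
      have h4 : d * (y : X) = y * d := mem_centralizer_singleton_iff.1 (hP1 hd)
      rw [MulAut.smul_def, MulAut.conj_apply]
      calc g * (y : X) * g⁻¹ * (g * d * g⁻¹) = g * ((y : X) * d) * g⁻¹ := by group
        _ = g * (d * y) * g⁻¹ := by rw [h4]
        _ = _ := by group
    set N := normalizer (PX : Set X) with hN
    have hyN : (y : X) ∈ N := by
      rw [hN, mem_normalizer_iff]
      intro c
      have key : ∀ (w : H) (c : X), c ∈ PX → (w : X) * c * (w : X)⁻¹ ∈ PX := by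
        rintro w _ ⟨c, hc', rfl⟩
        exact ⟨w * c * w⁻¹, hPn.conj_mem c hc' w, rfl⟩
      refine ⟨key y c, fun h3 => ?_⟩
      have h4 := key y⁻¹ _ h3
      have h5 : ((y⁻¹ : H) : X) * ((y : X) * c * (y : X)⁻¹) * ((y⁻¹ : H) : X)⁻¹ = c := by
        rw [Subgroup.coe_inv]; group
      rwa [h5] at h4
    have hy'N : g * (y : X) * g⁻¹ ∈ N := by
      have h3 : g * (y : X) * g⁻¹ ∈ centralizer (PX : Set X) := by
        rw [mem_centralizer_iff]
        intro c hc'
        exact (hy' c hc').symm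
      exact centralizer_le_normalizer _ h3
    have hyo' : orderOf (g * (y : X) * g⁻¹) = q := by
      rw [← hyX]
      exact orderOf_injective (MulAut.conj g).toMonoidHom (MulAut.conj g).injective (y : X)
    have hqN : ¬ q ^ 2 ∣ Nat.card N := fun hd => hsq q hq hq0 (hd.trans (card_subgroup_dvd_card N))
    have hS : ∀ w : N, orderOf (w : X) = q → IsPGroup q (zpowers w) ∧ ¬ q ∣ (zpowers w).index := by
      intro w hw
      have hw' : orderOf w = q := by rw [← Subgroup.orderOf_coe, hw]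
      refine ⟨?_, not_dvd_index_of_mem (hπ q hq) hqN hw' (mem_zpowers w)⟩
      rw [IsPGroup.iff_card]
      exact ⟨1, by rw [Nat.card_zpowers, hw', pow_one]⟩
    obtain ⟨s1, s2⟩ := hS ⟨(y : X), hyN⟩ hyX
    obtain ⟨t1, t2⟩ := hS ⟨g * (y : X) * g⁻¹, hy'N⟩ hyo'
    obtain ⟨n, hn⟩ := MulAction.exists_smul_eq N (t1.toSylow t2) (s1.toSylow s2)
    have h3 : (⟨(y : X), hyN⟩ : N) ∈ ((n • (t1.toSylow t2) : Sylow q N) : Subgroup N) := by
      rw [hn]; exact mem_zpowers _
    rw [Sylow.coe_subgroup_smul, Subgroup.mem_smul_pointwise_iff_exists] at h3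
    obtain ⟨d, hd, hde⟩ := h3
    obtain ⟨i, hi⟩ := hd
    have hi' : ((⟨g * (y : X) * g⁻¹, hy'N⟩ : N) ^ i) = d := hi
    have h4 : (y : X) = (n : X) * (g * (y : X) * g⁻¹) ^ i * (n : X)⁻¹ := by
      have h5 := congrArg Subtype.val hde
      rw [← hi'] at h5
      exact h5.symm
    have hn' : (n : X)⁻¹ * b * (n : X)⁻¹⁻¹ ∈ PX := ((mem_normalizer_iff.1 (inv_mem n.2)) b).1 hb
    have h6 : Commute (g * (y : X) * g⁻¹) ((n : X)⁻¹ * b * (n : X)⁻¹⁻¹) := hy' _ hn'
    have h7 := (h6.zpow_left i).eq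
    rw [h4]
    calc (n : X) * (g * (y : X) * g⁻¹) ^ i * (n : X)⁻¹ * b
        = (n : X) * ((g * (y : X) * g⁻¹) ^ i * ((n : X)⁻¹ * b * (n : X)⁻¹⁻¹)) * (n : X)⁻¹ := by group
      _ = (n : X) * (((n : X)⁻¹ * b * (n : X)⁻¹⁻¹) * (g * (y : X) * g⁻¹) ^ i) * (n : X)⁻¹ := by rw [h7]
      _ = b * ((n : X) * (g * (y : X) * g⁻¹) ^ i * (n : X)⁻¹) := by group
  -- `P` is central
  have hexy : ∀ q : ℕ, q.Prime → q ∣ Nat.card H → q ≠ r → ∃ y : H, orderOf y = q := by
    intro q hq hqd _
    have : Fact q.Prime := ⟨hq⟩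
    exact exists_prime_orderOf_dvd_card' q hqd
  have hPZ : ∀ a : H, ∀ b ∈ (P : Subgroup H), a * b = b * a := by
    have h3 : centralizer ((P : Subgroup H) : Set H) = ⊤ := by
      refine eq_top_of_forall fun q hq hqd => ?_
      by_cases hqr : q = r
      · subst hqr
        intro hd
        refine P.not_dvd_index (hd.trans (index_dvd_of_le ?_))
        intro a ha
        rw [mem_centralizer_iff]
        intro b hb
        exact Subtype.ext (hPab _ (mem_map_of_mem _ hb) _ (mem_map_of_mem _ ha))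
      · obtain ⟨y, hy⟩ := hexy q hq hqd hqr
        refine not_dvd_index_of_mem hq (hsqH q (h1 q hq hqd) hqr) hy ?_
        rw [mem_centralizer_iff]
        intro b hb
        exact Subtype.ext (hcent q (h1 q hq hqd) hqr y hy _ (mem_map_of_mem _ hb)).symm
    intro a b hb
    have h4 : a ∈ centralizer ((P : Subgroup H) : Set H) := by rw [h3]; trivial
    exact (mem_centralizer_iff.1 h4 b hb).symm
  have hZ : center H = ⊤ := by
    refine eq_top_of_forall fun q hq hqd => ?_
    by_cases hqr : q = r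
    · subst hqr
      intro hd
      refine P.not_dvd_index (hd.trans (index_dvd_of_le ?_))
      intro b hb
      rw [mem_center_iff]
      exact fun a => hPZ a b hb
    · obtain ⟨y, hy⟩ := hexy q hq hqd hqr
      refine not_dvd_index_of_mem hq (hsqH q (h1 q hq hqd) hqr) hy ?_
      rw [mem_center_iff]
      intro a
      have hc1 : ⁅y, a⁆ ∈ (P : Subgroup H) := hP (commutator_mem_commutator (mem_top y) (mem_top a))
      have hya : ∀ n : ℕ, y ^ n * a = ⁅y, a⁆ ^ n * (a * y ^ n) := by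
        intro n
        induction n with
        | zero => simp
        | succ n ih =>
          have h5 : y * a = ⁅y, a⁆ * (a * y) := by rw [commutatorElement_def]; group
          have h6 : y * ⁅y, a⁆ ^ n = ⁅y, a⁆ ^ n * y := hPZ y _ (pow_mem hc1 n)
          calc y ^ (n + 1) * a = y * (y ^ n * a) := by rw [pow_succ']; group
            _ = (y * ⁅y, a⁆ ^ n) * (a * y ^ n) := by rw [ih]; group
            _ = ⁅y, a⁆ ^ n * (y * a) * y ^ n := by rw [h6]; group
            _ = ⁅y, a⁆ ^ n * (⁅y, a⁆ * (a * y)) * y ^ n := by rw [h5]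
            _ = ⁅y, a⁆ ^ (n + 1) * (a * y ^ (n + 1)) := by rw [pow_succ, pow_succ']; group
      have h7 := hya q
      rw [← hy, pow_orderOf_eq_one, one_mul, mul_one, right_eq_mul] at h7
      obtain ⟨k, hk⟩ := P.2 ⟨_, hc1⟩
      have hk' : ⁅y, a⁆ ^ r ^ k = 1 := congrArg Subtype.val hk
      have h8 : orderOf ⁅y, a⁆ ∣ Nat.gcd (orderOf y) (r ^ k) :=
        Nat.dvd_gcd (orderOf_dvd_of_pow_eq_one h7) (orderOf_dvd_of_pow_eq_one hk')
      rw [hy, Nat.Coprime.pow_right k ((Nat.coprime_primes hq hr).2 hqr), Nat.dvd_one, orderOf_eq_one_iff] at h8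
      exact (commutatorElement_eq_one_iff_mul_comm.1 h8).symm
  refine ⟨⟨fun a b => ?_⟩⟩
  have h3 : a ∈ center H := by rw [hZ]; trivial
  exact (mem_center_iff.1 h3 b).symm

/-- **The abelian Hall `π`-subgroup if some centralizer is solvable.** -/
theorem exists_of_solvable [Finite X] {p0 : ℕ} {π : Set ℕ} (hπ : ∀ p ∈ π, p.Prime) (hab : Ab p0 X)
    (hsq : ∀ q ∈ π, q ≠ p0 → ¬ q ^ 2 ∣ Nat.card X) (hc : Cond π X) {x : X} (hx : orderOf x ∈ π)
    (hs : Group.IsSolvable ↥(centralizer ({x} : Set X))) :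
    ∃ T : Subgroup X, IsMulCommutative T ∧ ∀ s ∈ π, ¬ s ∣ T.index := by
  obtain ⟨H, hH1, hH2, hH3⟩ := OddOrderLocal.HallPi.exists_isPiHallOf (M := centralizer ({x} : Set X)) hs π
  have hC : ∀ p ∈ π, ¬ p ∣ (centralizer ({x} : Set X)).index := by
    intro p hp
    by_cases hpq : orderOf x = p
    · by_cases hp0 : p = p0
      · subst hp0
        have : Fact p.Prime := ⟨hπ p hp⟩
        have h1 : IsPGroup p (zpowers x) := by
          rw [IsPGroup.iff_card]
          exact ⟨1, by rw [Nat.card_zpowers, hpq, pow_one]⟩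
        obtain ⟨P, hP⟩ := h1.exists_le_sylow
        intro hd
        refine P.not_dvd_index (hd.trans (index_dvd_of_le fun a ha => ?_))
        rw [mem_centralizer_singleton_iff]
        exact congrArg Subtype.val ((hab P).is_comm.comm ⟨a, ha⟩ ⟨x, hP (mem_zpowers x)⟩)
      · exact not_dvd_index_of_mem (hπ p hp) (hsq p hp hp0) hpq (mem_centralizer_singleton_iff.2 rfl)
    · exact hc _ hx p hp hpq x ⟨1, by rw [pow_one]⟩
  have hi : ∀ p ∈ π, ¬ p ∣ H.index := by
    intro p hp hd
    rw [← relIndex_mul_index hH1] at hd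
    rcases (hπ p hp).dvd_mul.1 hd with h | h
    · exact hH3 p (hπ p hp) hp h
    · exact hC p hp h
  exact ⟨H, comm_of_hall hπ hab hsq hc H hH2 hi, hi⟩

end

/-! ### Assembly -/

/-- every triple of elements of `A` contains a pair of `P` -/
def TriOk (A : List ℕ) (P : List (ℕ × ℕ)) : Bool :=
  A.all fun a => A.all fun b => A.all fun c => a == b || a == c || b == c ||
    P.contains (a, b) || P.contains (b, a) || P.contains (a, c) || P.contains (c, a) || P.contains (b, c) ||
    P.contains (c, b)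

theorem triOk_spec {A : List ℕ} {P : List (ℕ × ℕ)} (h : TriOk A P = true) {a b c : ℕ} (ha : a ∈ A) (hb : b ∈ A)
    (hc : c ∈ A) (hab : a ≠ b) (hac : a ≠ c) (hbc : b ≠ c) :
    (a, b) ∈ P ∨ (b, a) ∈ P ∨ (a, c) ∈ P ∨ (c, a) ∈ P ∨ (b, c) ∈ P ∨ (c, b) ∈ P := by
  have h1 := List.all_eq_true.1 (List.all_eq_true.1 (List.all_eq_true.1 h a ha) b hb) c hc
  simp only [Bool.or_eq_true, beq_iff_eq, List.contains_iff_mem] at h1
  tauto

/-- a prime divisor of `N` is in `2 :: L` -/
theorem mem_of_dvd {N k : ℕ} {L : List ℕ} (hL : ∀ q ∈ L, q.Prime) (hk : (2 * L.prod) ^ k % N = 0) {p : ℕ} (hp : p.Prime)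
    (hp2 : p ≠ 2) (hd : p ∣ N) : p ∈ L := by
  have h1 : p ∣ 2 * L.prod := hp.dvd_of_dvd_pow (hd.trans (Nat.dvd_of_mod_eq_zero hk))
  rcases hp.dvd_mul.1 h1 with h | h
  · exact absurd ((Nat.prime_dvd_prime_iff_eq hp Nat.prime_two).1 h) hp2
  · obtain ⟨q, hq, hpq⟩ := (hp.prime.dvd_prod_iff).1 h
    rwa [(Nat.prime_dvd_prime_iff_eq hp (hL q hq)).1 hpq]

/-- **The assembly of a row.**  `L`: the odd prime divisors of `N = |X|`; `B`: the primes treated with all others; `p0`: the
only other prime with square dividing `N`; `S`: primes `r` with an element of order `r` with solvable centralizer; `P`: pairs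
meeting all triples of the remaining primes. -/
theorem row_of {X : Type u} [Group X] [Finite X] (N k : ℕ) (hN : Nat.card X = N) (L B S : List ℕ) (p0 : ℕ)
    (P : List (ℕ × ℕ)) (hLp : ∀ q ∈ L, q.Prime) (hk : (2 * L.prod) ^ k % N = 0)
    (hsq : ∀ q ∈ L, q ∈ B ∨ q = p0 ∨ N % q ^ 2 ≠ 0) (hp0 : Ab p0 X)
    (hB : ∀ p ∈ B, ∀ q ∈ L, p ≠ q → NC p q X)
    (hS : ∀ r ∈ S, ∃ x : X, orderOf x = r ∧ Group.IsSolvable ↥(centralizer ({x} : Set X)))
    (hP : ∀ a ∈ P, NC a.1 a.2 X) (hT : TriOk ((L.filter (fun q => !B.contains q)).filter (fun q => !S.contains q)) P = true) :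
    Row X := by
  intro π hπ hnt hc
  subst hN
  have hL : ∀ p ∈ π, p ∈ L := fun p hp => mem_of_dvd hLp hk (hπ p hp).1 (hπ p hp).2.1 (hπ p hp).2.2
  have hpr : ∀ p ∈ π, p.Prime := fun p hp => (hπ p hp).1
  by_cases hBπ : ∃ p ∈ π, p ∈ B
  · exfalso
    obtain ⟨p, hp, hpB⟩ := hBπ
    obtain ⟨q, hq, hpq⟩ := hnt.exists_ne p
    exact (hB p hpB q (hL q hq) hpq.symm).not hp hq hc
  push Not at hBπ
  have hsq' : ∀ q ∈ π, q ≠ p0 → ¬ q ^ 2 ∣ Nat.card X := by
    intro q hq hq0 hd
    rcases hsq q (hL q hq) with h | h | h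
    · exact hBπ q hq h
    · exact hq0 h
    · exact h (Nat.mod_eq_zero_of_dvd hd)
  by_cases hSπ : ∃ r ∈ π, r ∈ S
  · obtain ⟨r, hr, hrS⟩ := hSπ
    obtain ⟨x, hx, hs⟩ := hS r hrS
    exact exists_of_solvable hpr hp0 hsq' hc (by rw [hx]; exact hr) hs
  push Not at hSπ
  have hA : ∀ p ∈ π, p ∈ (L.filter (fun q => !B.contains q)).filter (fun q => !S.contains q) := by
    intro p hp
    rw [List.mem_filter, List.mem_filter]
    refine ⟨⟨hL p hp, ?_⟩, ?_⟩
    · simpa using hBπ p hp
    · simpa using hSπ p hp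
  obtain ⟨p, hp, q, hq, hpq⟩ := hnt
  by_cases h3 : ∃ c ∈ π, c ≠ p ∧ c ≠ q
  · exfalso
    obtain ⟨c, hcπ, h1, h2⟩ := h3
    rcases triOk_spec hT (hA p hp) (hA q hq) (hA c hcπ) hpq h1.symm h2.symm with h | h | h | h | h | h
    · exact (hP _ h).not hp hq hc
    · exact (hP _ h).not hq hp hc
    · exact (hP _ h).not hp hcπ hc
    · exact (hP _ h).not hcπ hp hc
    · exact (hP _ h).not hq hcπ hc
    · exact (hP _ h).not hcπ hq hc
  push Not at h3
  have hab : ∀ s ∈ π, Ab s X := by
    intro s hs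
    by_cases hs0 : s = p0
    · rw [hs0]; exact hp0
    · exact ab_of_not_cube (hpr s hs) fun hd => hsq' s hs hs0 ((pow_dvd_pow s (by norm_num)).trans hd)
  by_cases hq0 : q = p0
  · have hp0' : p ≠ p0 := fun h => hpq (h.trans hq0.symm)
    exact exists_pair (hpr q hq) (hpr p hp) hpq.symm (hπ p hp).2.2 (hsq' p hp hp0') (hab q hq) hq hp
      (fun s hs => by by_cases h : s = p; exacts [Or.inr h, Or.inl (h3 s hs h)]) hc
  · exact exists_pair (hpr p hp) (hpr q hq) hpq (hπ q hq).2.2 (hsq' q hq hq0) (hab p hp) hp hq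
      (fun s hs => by by_cases h : s = p; exacts [Or.inl h, Or.inr (h3 s hs h)]) hc

/-- odd order centralizers are solvable -/
theorem solvable_of_odd {X : Type u} [Group X] [Finite X]
    (ft : ∀ (K : Type u) [Group K] [Finite K], Odd (Nat.card K) → Group.IsSolvable K) {x : X}
    (h : ∀ t : X, orderOf t = 2 → x * t ≠ t * x) : Group.IsSolvable ↥(centralizer ({x} : Set X)) := by
  refine ft _ ?_
  by_contra hne
  rw [Nat.not_odd_iff_even] at hne
  have : Fact (Nat.Prime 2) := ⟨Nat.prime_two⟩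
  obtain ⟨u, hu⟩ := exists_prime_orderOf_dvd_card' 2 (even_iff_two_dvd.1 hne)
  exact h u (by rw [Subgroup.orderOf_coe, hu]) (mem_centralizer_singleton_iff.1 u.2).symm

end Cfsg.Agent.H241.NH
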