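import Cfsg.Agent.LThreeCo1Twelve.Ord
import Cfsg.Agent.S1759
import Cfsg.Agent.S1619
import Cfsg.Agent.S1625
import Cfsg.Agent.S0280
import Cfsg.Agent.S0243
import Cfsg.Agent.S1059
import Cfsg.Agent.MTwelveType.SylowModel

/-!
# `C(e 1, e 2) / ⟨e 1, e 2⟩ ≅ PSU₄(3)` in `Co1`

Copy of the section `LThreeCo1Twelve.Elim` of `LThreeMB.CoOneFin` (helper38), with fewer imports.
-/

set_option autoImplicit false

namespace Cfsg.Agent.H241.CoOneElim

open Cfsg Subgroup
open Cfsg.Agent.LThreeCo1Twelve.Gam Cfsg.Agent.LThreeCo1Twelve.Ord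

variable {K : Type*} [Group K]

/-- orders divisible by `5`, `7` and `3 ^ 5` -/
def Big (n : ℕ) : Prop := 5 ∣ n ∧ 7 ∣ n ∧ 3 ^ 5 ∣ n

theorem mul_big {m n : ℕ} (k : ℕ) (h : k * m = n) (hb : Big m) : Big n := by
  subst h
  exact ⟨hb.1.mul_left _, hb.2.1.mul_left _, hb.2.2.mul_left _⟩

theorem not_psu3 {F : Type} [Field F] [Fintype F] (hF : Fintype.card F = 9) : ¬ Big (Nat.card (PSU 3 F 3)) := by
  intro h
  have h1 := Cfsg.Agent.S0280.result (F := F) (q := 3) (by rw [hF]; norm_num) 3 (by norm_num)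
  rw [← mul_assoc] at h1
  have h2 := (mul_big _ h1 h).1
  revert h2
  simp [Finset.prod_range_succ]

theorem not_psu4 {F : Type} [Field F] [Fintype F] (hF : Fintype.card F = 4) : ¬ Big (Nat.card (PSU 4 F 2)) := by
  intro h
  have h1 := Cfsg.Agent.S0280.result (F := F) (q := 2) (by rw [hF]; norm_num) 4 (by norm_num)
  rw [← mul_assoc] at h1
  have h2 := (mul_big _ h1 h).2.1
  revert h2
  have he : Even 2 := by norm_num
  have ho : ¬ Even 1 := by norm_num
  have ho' : ¬ Even 3 := by decide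
  simp [Finset.prod_range_succ, he, ho, ho']

theorem not_psl4 {F : Type} [Field F] [Fintype F] (hF : Fintype.card F = 3) :
    ¬ Big (Nat.card (Matrix.ProjectiveSpecialLinearGroup (Fin 4) F)) := by
  intro h
  have h1 := Cfsg.Agent.S0243.result hF 4 (by norm_num)
  rw [← mul_assoc] at h1
  have h2 := (mul_big _ h1 h).2.1
  revert h2
  simp [Fin.prod_univ_succ]

theorem not_g2 {F : Type} [Field F] [Fintype F] (hF : Fintype.card F = 3) :
    ¬ Big (Nat.card ↥(Cfsg.Lie.chevG2.group F)) := by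
  intro h
  rw [Cfsg.Agent.S1059.result hF] at h
  exact absurd h.1 (by norm_num)

theorem card_alt (n : ℕ) (hn : 2 ≤ n) : 2 * Nat.card ↥(alternatingGroup (Fin n)) = n.factorial := by
  have : Nontrivial (Fin n) := Fin.nontrivial_iff_two_le.2 hn
  rw [Nat.card_eq_fintype_card, two_mul_card_alternatingGroup, Fintype.card_perm, Fintype.card_fin]

theorem not_alt {n : ℕ} (hn : 2 ≤ n) (h9 : n ≤ 9) : ¬ Big (Nat.card ↥(alternatingGroup (Fin n))) := by
  intro h
  have h1 := (mul_big _ (card_alt n hn) h).2.2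
  revert h1
  interval_cases n <;> decide

omit [Group K] in
theorem not_of_card {n : ℕ} (h : Nat.card K = n) (hn : ¬ Big n) : ¬ Big (Nat.card K) := by rw [h]; exact hn

theorem not_m12 (h : Spor.IsoM12 K) : ¬ Big (Nat.card K) := by
  obtain ⟨e⟩ := h
  refine not_of_card (n := 95040) ?_ (fun h => absurd h.2.1 (by norm_num))
  rw [Nat.card_congr e.toEquiv, Cfsg.Agent.MTwelveType.SylowModel.card_M12]

theorem not_j2 (h : Spor.IsoJ2 K) : ¬ Big (Nat.card K) := by
  obtain ⟨e⟩ := h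
  refine not_of_card (n := 604800) ?_ (fun h => absurd h.2.2 (by norm_num))
  rw [Nat.card_congr e.toEquiv, Cfsg.Agent.S1619.result.2.2.2]

theorem not_j3 (h : Spor.IsoJ3 K) : ¬ Big (Nat.card K) := by
  obtain ⟨F, _, _, ω, hF, hω, ⟨e⟩⟩ := h
  refine not_of_card (n := 50232960) ?_ (fun h => absurd h.2.1 (by norm_num))
  rw [Nat.card_congr e.toEquiv, (Cfsg.Agent.S1625.result F hF ω hω).2.2.1]

theorem big_H : Big (Nat.card H) := ⟨five, seven, three⟩

theorem pre_two_card : Nat.card ↥QQ = 32 := by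
  rw [Cfsg.Agent.LThreeCo1.FourCo1.pre_two.card_map, Cfsg.Agent.LThreeCo1.FourCo1.card_two]
  norm_num

/-- the generalized Fitting subgroup is everything -/
noncomputable def topEquiv : ↥(generalizedFittingSubgroup H) ≃* H :=
  (MulEquiv.subgroupCongr genFit_top).trans Subgroup.topEquiv

/-- **`C(e 1, e 2) / ⟨e 1, e 2⟩ ≅ PSU₄(3)`** -/
theorem psu : ∃ (F : Type) (_ : Field F) (_ : Fintype F), Fintype.card F = 9 ∧ Nonempty (H ≃* PSU 4 F 3) := by
  have hm := hyp.main
  have hc := hyp.card_genFit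
  rw [pre_two_card] at hc
  have hb : Big (Nat.card ↥(generalizedFittingSubgroup H)) := by
    rw [Nat.card_congr topEquiv.toEquiv]; exact big_H
  rcases Cfsg.Agent.S1759.result zH hyp.orderOf_z hyp.sympl hyp.extra hc hm.1 hm.2.1 with
    ⟨F, i1, i2, hF, ⟨⟨e⟩⟩ | ⟨⟨e⟩⟩⟩ | ⟨F, i1, i2, hF, ⟨e⟩⟩ | ⟨F, i1, i2, hF, ⟨⟨e⟩⟩ | ⟨⟨e⟩⟩⟩ | h | h | h | h | h
  · rw [Nat.card_congr e.toEquiv] at hb
    exact absurd hb (not_psu3 hF)
  · exact ⟨F, i1, i2, hF, ⟨topEquiv.symm.trans e⟩⟩
  · rw [Nat.card_congr e.toEquiv] at hb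
    exact absurd hb (not_psu4 hF)
  · rw [Nat.card_congr e.toEquiv] at hb
    exact absurd hb (not_psl4 hF)
  · rw [Nat.card_congr e.toEquiv] at hb
    exact absurd hb (not_g2 hF)
  · obtain ⟨e⟩ := h
    rw [Nat.card_congr e.toEquiv] at hb
    exact absurd hb (not_alt (by norm_num) (by norm_num))
  · obtain ⟨e⟩ := h
    rw [Nat.card_congr e.toEquiv] at hb
    exact absurd hb (not_alt (by norm_num) (by norm_num))
  · exact absurd hb (not_m12 h)
  · exact absurd hb (not_j2 h)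
  · exact absurd hb (not_j3 h)

end Cfsg.Agent.H241.CoOneElim
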