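import Cfsg.Agent.H241.NHGen

/-!
# General tools for the Monster and the Baby Monster, part 2 (helper241)

* `Frk p q X` : Frobenius relation with a `p`-element; `Frk.lift` : lifting along surjections;
* `no_comm_of_frattini` : Frattini argument;
* `Three` : the theorem of Feit and Thompson (S3331), as a hypothesis;
* `no_comm_of_self`.
-/

set_option autoImplicit false
open Subgroup
open scoped Pointwise

namespace Cfsg.Agent.H241.NH

open Cfsg.Agent.H630.NH Cfsg.Agent.H393.Iso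

universe u v

/-- a `p`-element normalizing and not centralizing a subgroup of order `q` -/
def Frk (p q : ℕ) (X : Type u) [Group X] : Prop :=
  ∃ u y : X, (∃ k : ℕ, orderOf u = p ^ k) ∧ orderOf y = q ∧ (∃ m : ℕ, u * y * u⁻¹ = y ^ m) ∧ u * y ≠ y * u

section

variable {p q : ℕ} {X : Type u} {Y : Type v} [Group X] [Group Y]

theorem Fr.frk (h : Fr p q X) : Frk p q X := by
  obtain ⟨u, y, hu, hy, hm, hne⟩ := h
  exact ⟨u, y, ⟨1, by rw [hu, pow_one]⟩, hy, hm, hne⟩

theorem Frk.map (h : Frk p q X) (f : X →* Y) (hf : Function.Injective f) : Frk p q Y := by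
  obtain ⟨u, y, ⟨k, hu⟩, hy, ⟨m, hm⟩, hne⟩ := h
  refine ⟨f u, f y, ⟨k, ?_⟩, ?_, ⟨m, ?_⟩, ?_⟩
  · rw [orderOf_injective f hf, hu]
  · rw [orderOf_injective f hf, hy]
  · rw [← map_mul, ← map_inv, ← map_mul, hm, map_pow]
  · rw [← map_mul, ← map_mul]
    exact fun h => hne (hf h)

theorem Frk.sub {K : Subgroup X} (h : Frk p q K) : Frk p q X := h.map K.subtype K.subtype_injective

theorem Frk.congr (e : X ≃* Y) (h : Frk p q X) : Frk p q Y := h.map e.toMonoidHom e.injective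

theorem Frk.nc [Finite X] (h : Frk p q X) (hp : p.Prime) (hpq : p ≠ q) : NC p q X := by
  obtain ⟨u, y, hu, hy, ⟨m, hm⟩, hne⟩ := h
  exact nc_of_act hp hpq hu ⟨1, by rw [hy, pow_one]⟩ hm hne

/-- the `p`-part of an element -/
theorem exists_ppart [Finite X] (hp : p.Prime) (g : X) : ∃ j : ℕ, (∃ k : ℕ, orderOf (g ^ j) = p ^ k) ∧
    ∀ (Z : Type v) [Group Z] (f : X →* Z) (k : ℕ), (f g) ^ p ^ k = 1 → f (g ^ j) = f g := by
  obtain ⟨a, n, hn, hgn⟩ := Nat.exists_eq_pow_mul_and_not_dvd (orderOf_pos g).ne' p hp.ne_one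
  have hcop : Nat.Coprime n (p ^ a) := Nat.Coprime.pow_right a ((Nat.Prime.coprime_iff_not_dvd hp).2 hn).symm
  obtain ⟨j, hj⟩ : ∃ j : ℕ, n * j ≡ 1 [MOD p ^ a] := by
    rcases Nat.eq_zero_or_pos a with rfl | ha
    · exact ⟨0, by rw [pow_zero]; exact Nat.modEq_one⟩
    · have h1 : 1 < p ^ a := Nat.one_lt_pow ha.ne' hp.one_lt
      obtain ⟨j, -, hj⟩ := Nat.exists_mul_mod_eq_one_of_coprime hcop h1
      exact ⟨j, by rw [Nat.ModEq, hj, Nat.mod_eq_of_lt h1]⟩
  refine ⟨n * j, ?_, ?_⟩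
  · have h1 : (g ^ (n * j)) ^ p ^ a = 1 := by
      rw [← pow_mul, mul_right_comm, mul_comm n (p ^ a), ← hgn, pow_mul, pow_orderOf_eq_one, one_pow]
    obtain ⟨k, -, hk⟩ := (Nat.dvd_prime_pow hp).1 (orderOf_dvd_of_pow_eq_one h1)
    exact ⟨k, hk⟩
  · intro Z _ f k hk
    have h2 : orderOf (f g) ∣ p ^ a := by
      obtain ⟨b, -, hb⟩ := (Nat.dvd_prime_pow hp).1 (orderOf_dvd_of_pow_eq_one hk)
      have h3 : orderOf (f g) ∣ p ^ a * n := by rw [← hgn]; exact orderOf_map_dvd f g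
      rw [hb] at h3 ⊢
      exact Nat.Coprime.dvd_of_dvd_mul_right (Nat.Coprime.pow_left b ((Nat.Prime.coprime_iff_not_dvd hp).2 hn)) h3
    have h3 : n * j ≡ 1 [MOD orderOf (f g)] := hj.of_dvd h2
    rw [map_pow, pow_eq_pow_iff_modEq.2 h3, pow_one]

/-- **Frobenius relations lift along surjections with kernel of order prime to `q`.** -/
theorem Frk.lift [Finite X] (hp : p.Prime) (hq : q.Prime) (f : X →* Y) (hf : Function.Surjective f)
    (hk : ¬ q ∣ Nat.card f.ker) (h : Frk p q Y) : Frk p q X := by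
  have hFp : Fact p.Prime := ⟨hp⟩
  have hFq : Fact q.Prime := ⟨hq⟩
  have hfinY : Finite Y := Finite.of_surjective f hf
  obtain ⟨u, y, ⟨k, hu⟩, hy, ⟨m, hm⟩, hne⟩ := h
  -- the preimage of `⟨y⟩`
  set L : Subgroup X := (zpowers y).comap f with hL
  obtain ⟨Q⟩ : Nonempty (Sylow q L) := inferInstance
  -- its order
  let g : L →* zpowers y := (f.comp L.subtype).codRestrict (zpowers y) fun x => x.2
  have hg : Function.Surjective g := by
    rintro ⟨a, ha⟩
    obtain ⟨x, rfl⟩ := hf a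
    exact ⟨⟨x, ha⟩, rfl⟩
  have hQm : (Q : Subgroup L).map g = ⊤ := by
    rw [← index_eq_one]
    have h1 : ((Q : Subgroup L).map g).index ∣ (Q : Subgroup L).index := index_map_dvd _ hg
    by_contra hne1
    have hyp : IsPGroup q (zpowers y) := IsPGroup.of_card (n := 1) (by rw [Nat.card_zpowers, hy, pow_one])
    obtain ⟨n, hn⟩ := hyp.index ((Q : Subgroup L).map g)
    have hn0 : n ≠ 0 := by
      rintro rfl
      exact hne1 (by rw [hn, pow_zero])
    exact Q.not_dvd_index ((dvd_pow_self q hn0).trans (hn ▸ h1))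
  -- `g` is injective on `Q`
  have hinj : ∀ x ∈ (Q : Subgroup L), f x = 1 → x = 1 := by
    intro x hx hfx
    by_contra hx1
    obtain ⟨n, hn⟩ := IsPGroup.iff_orderOf.1 Q.2 ⟨x, hx⟩
    rw [Subgroup.orderOf_mk] at hn
    have hn0 : n ≠ 0 := by
      rintro rfl
      rw [pow_zero, orderOf_eq_one_iff] at hn
      exact hx1 hn
    apply hk
    have h1 : ((x : L) : X) ∈ f.ker := hfx
    have h2 : orderOf ((x : L) : X) ∣ Nat.card f.ker := by
      rw [← Subgroup.orderOf_mk ((x : L) : X) h1]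
      exact orderOf_dvd_natCard _
    rw [Subgroup.orderOf_coe, hn] at h2
    exact (dvd_pow_self q hn0).trans h2
  -- a lift of `y` in `Q`
  obtain ⟨y', hy', hyy⟩ : ∃ y' ∈ (Q : Subgroup L), f y' = y := by
    have h1 : (⟨y, mem_zpowers y⟩ : zpowers y) ∈ (Q : Subgroup L).map g := by rw [hQm]; trivial
    obtain ⟨y', hy', h2⟩ := h1
    exact ⟨y', hy', congrArg Subtype.val h2⟩
  have hoy : orderOf ((y' : L) : X) = q := by
    refine orderOf_eq_prime ?_ ?_
    · have h1 : (y' : L) ^ q = 1 := by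
        refine hinj _ (pow_mem hy' q) ?_
        show f (((y' : L) : X) ^ q) = 1
        rw [map_pow, hyy, ← hy, pow_orderOf_eq_one]
      exact congrArg Subtype.val h1
    · intro h1
      rw [h1, map_one] at hyy
      rw [← hyy, orderOf_one] at hy
      exact hq.one_lt.ne hy
  -- a lift of `u` normalizing `L`
  obtain ⟨w, hw⟩ := hf u
  have hmn : u * y * u⁻¹ ∈ zpowers y := by rw [hm]; exact pow_mem (mem_zpowers y) m
  have hLw : ∀ x ∈ L, w * x * w⁻¹ ∈ L := by
    intro x hx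
    show f (w * x * w⁻¹) ∈ zpowers y
    rw [map_mul, map_mul, map_inv, hw]
    obtain ⟨i, hi⟩ := (show f x ∈ zpowers y from hx)
    refine ⟨(m : ℤ) * i, ?_⟩
    have hi' : y ^ i = f x := hi
    show y ^ ((m : ℤ) * i) = _
    rw [zpow_mul, zpow_natCast, ← hm, conj_zpow, hi']
  -- the conjugate of `Q`
  let φ : L →* L := ((MulAut.conj w).toMonoidHom.comp L.subtype).codRestrict L fun x => hLw x x.2
  have hφ : Function.Injective φ := by
    intro a b hab
    have h1 : w * (a : X) * w⁻¹ = w * b * w⁻¹ := congrArg Subtype.val hab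
    exact Subtype.ext (mul_left_cancel (mul_right_cancel h1))
  have hQφ : IsPGroup q ((Q : Subgroup L).map φ) := Q.2.map φ
  obtain ⟨R, hR⟩ := hQφ.exists_le_sylow
  have hRQ : (R : Subgroup L) = (Q : Subgroup L).map φ := by
    symm
    refine Subgroup.eq_of_le_of_card_ge hR ?_
    rw [Subgroup.card_map_of_injective hφ, R.card_eq_multiplicity, Q.card_eq_multiplicity]
  obtain ⟨n, hn⟩ := MulAction.exists_smul_eq L R Q
  -- `n * w` normalizes `Q`
  have hnw : ∀ x ∈ (Q : Subgroup L), ∃ x' ∈ (Q : Subgroup L), ((x' : L) : X) = (n : X) * w * x * ((n : X) * w)⁻¹ := by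
    intro x hx
    have h1 : φ x ∈ (R : Subgroup L) := by rw [hRQ]; exact ⟨x, hx, rfl⟩
    have h2 : n * φ x * n⁻¹ ∈ (Q : Subgroup L) := by
      rw [← hn]
      exact Subgroup.smul_mem_pointwise_smul (φ x) (MulAut.conj n) _ h1
    refine ⟨_, h2, ?_⟩
    show (n : X) * (w * x * w⁻¹) * (n : X)⁻¹ = _
    group
  -- `f n` is a power of `y`
  obtain ⟨i, hi⟩ := (show f n ∈ zpowers y from n.2)
  have hi' : y ^ i = f n := hi
  have hfu : ∀ j : ℤ, f ((n : X) * w) * y ^ j * (f ((n : X) * w))⁻¹ = (y ^ m) ^ j := by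
    intro j
    rw [map_mul, hw, ← hi', ← hm, conj_zpow]
    calc y ^ i * u * y ^ j * (y ^ i * u)⁻¹ = y ^ i * (u * y ^ j * u⁻¹) * (y ^ i)⁻¹ := by group
      _ = y ^ i * (u * y * u⁻¹) ^ j * (y ^ i)⁻¹ := by rw [conj_zpow]
      _ = y ^ i * (y ^ m) ^ j * (y ^ i)⁻¹ := by rw [hm]
      _ = (y ^ m) ^ j := by
        have : Commute (y ^ i) ((y ^ m) ^ j) := ((Commute.refl y).pow_right m |>.zpow_right j).zpow_left i
        rw [this.eq, mul_inv_cancel_right]
      _ = u * y ^ j * u⁻¹ := by rw [← hm, conj_zpow]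
  set t : X := (n : X) * w with ht
  have htQ : t * ((y' : L) : X) * t⁻¹ = ((y' : L) : X) ^ m := by
    obtain ⟨x', hx', hxx⟩ := hnw y' hy'
    rw [← hxx]
    have h1 : (x' : L) * ((y' : L) ^ m)⁻¹ = 1 := by
      refine hinj _ (mul_mem hx' (inv_mem (pow_mem hy' m))) ?_
      show f (((x' : L) : X) * (((y' : L) : X) ^ m)⁻¹) = 1
      rw [map_mul, map_inv, map_pow, hyy, hxx, map_mul, map_mul, map_inv, hyy]
      have h2 := hfu 1
      rw [zpow_one, zpow_one] at h2
      rw [h2, mul_inv_cancel]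
    have h2 : (x' : L) = (y' : L) ^ m := mul_inv_eq_one.1 h1
    rw [h2]; rfl
  -- the action on `⟨y'⟩` as a homomorphism
  set N := normalizer ((zpowers ((y' : L) : X) : Subgroup X) : Set X) with hN
  have htN : t ∈ N := by
    have hle : (zpowers ((y' : L) : X)).map (MulAut.conj t).toMonoidHom ≤ zpowers ((y' : L) : X) := by
      rw [MonoidHom.map_zpowers, zpowers_le]
      show t * _ * t⁻¹ ∈ _
      rw [htQ]
      exact pow_mem (mem_zpowers _) m
    have heq := Subgroup.eq_of_le_of_card_ge hle (by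
      rw [Subgroup.card_map_of_injective (MulAut.conj t).injective])
    rw [hN, mem_normalizer_iff]
    intro b
    constructor
    · intro hb
      rw [← heq]
      exact ⟨b, hb, rfl⟩
    · intro hb
      rw [← heq] at hb
      obtain ⟨c, hc, hcb⟩ := hb
      have : c = b := (MulAut.conj t).injective hcb
      rwa [← this]
  let ψ : N →* MulAut (zpowers ((y' : L) : X)) := Subgroup.normalizerMonoidHom _
  obtain ⟨j, hj, hjf⟩ := exists_ppart.{u, u} (X := N) hp ⟨t, htN⟩
  -- the image of `t` has `p`-power order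
  have hpow : (ψ ⟨t, htN⟩) ^ p ^ k = 1 := by
    rw [← map_pow]
    apply MulEquiv.ext
    rintro ⟨a, e, rfl⟩
    apply Subtype.ext
    show (t ^ p ^ k) * ((y' : L) : X) ^ e * (t ^ p ^ k)⁻¹ = ((y' : L) : X) ^ e
    have h1 : ∀ s : ℕ, t ^ s * ((y' : L) : X) * (t ^ s)⁻¹ = ((y' : L) : X) ^ (m ^ s) := by
      intro s
      induction s with
      | zero => simp
      | succ s ih =>
        rw [pow_succ' t s, pow_succ' m s]
        calc t * t ^ s * ((y' : L) : X) * (t * t ^ s)⁻¹ = t * (t ^ s * ((y' : L) : X) * (t ^ s)⁻¹) * t⁻¹ := by group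
          _ = (t * ((y' : L) : X) * t⁻¹) ^ (m ^ s) := by rw [ih, conj_pow]
          _ = _ := by rw [htQ, ← pow_mul]
    have h2 : ∀ s : ℕ, u ^ s * y * (u ^ s)⁻¹ = y ^ (m ^ s) := by
      intro s
      induction s with
      | zero => simp
      | succ s ih =>
        rw [pow_succ' u s, pow_succ' m s]
        calc u * u ^ s * y * (u * u ^ s)⁻¹ = u * (u ^ s * y * (u ^ s)⁻¹) * u⁻¹ := by group
          _ = (u * y * u⁻¹) ^ (m ^ s) := by rw [ih, conj_pow]
          _ = _ := by rw [hm, ← pow_mul]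
    have h3 : y ^ (m ^ p ^ k) = y := by
      rw [← h2 (p ^ k), ← hu, pow_orderOf_eq_one]; group
    have h4 : m ^ p ^ k ≡ 1 [MOD q] := by
      rw [← hy, ← pow_eq_pow_iff_modEq, pow_one]; exact h3
    have h5 : ((y' : L) : X) ^ (m ^ p ^ k) = ((y' : L) : X) := by
      rw [← hoy] at h4
      have := pow_eq_pow_iff_modEq.2 h4
      rwa [pow_one] at this
    rw [← conj_zpow, h1, h5]
  have h6 := hjf _ ψ k hpow
  refine ⟨t ^ j, ((y' : L) : X), ?_, hoy, ⟨m, ?_⟩, ?_⟩
  · obtain ⟨b, hb⟩ := hj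
    refine ⟨b, ?_⟩
    rw [← hb, ← Subgroup.orderOf_coe]
    rfl
  · have h7 := congrArg (fun a : MulAut (zpowers ((y' : L) : X)) => ((a ⟨_, mem_zpowers _⟩ :
      zpowers ((y' : L) : X)) : X)) h6
    have h8 : t ^ j * ((y' : L) : X) * (t ^ j)⁻¹ = t * ((y' : L) : X) * t⁻¹ := h7
    rw [h8, htQ]
  · intro hc
    apply hne
    have h7 := congrArg (fun a : MulAut (zpowers ((y' : L) : X)) => ((a ⟨_, mem_zpowers _⟩ :
      zpowers ((y' : L) : X)) : X)) h6
    have h8 : t ^ j * ((y' : L) : X) * (t ^ j)⁻¹ = t * ((y' : L) : X) * t⁻¹ := h7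
    rw [hc, mul_inv_cancel_right, htQ] at h8
    have h9 : y ^ m = y := by
      have h10 := congrArg f h8
      rw [map_pow, hyy] at h10
      exact h10.symm
    have h10 : u * y * u⁻¹ = y := hm.trans h9
    exact mul_inv_eq_iff_eq_mul.1 h10

end

end Cfsg.Agent.H241.NH
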