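import Cfsg.Agent.H241.NHTools
import Cfsg.Agent.H393.Iso.Mathieu

/-! # Row of the nilpotent Hall cluster: `M₁₁` (helper241; example) -/

set_option autoImplicit false
open Cfsg Subgroup

namespace Cfsg.Agent.H241.NH

open Cfsg.Agent.H630.NH Cfsg.Agent.H393.Iso

theorem row_m11 {G : Type*} [Group G] [Finite G] [IsSimpleGroup G] (h : Spor.IsoM11 G) : Row G := by
  have hN := NotCT.Orders.m11 h
  refine row_of (N := 7920) (k := 4) hN [3, 5, 11] [] [11] 3 [] ?_ ?_ ?_ ?_ ?_ ?_ ?_ ?_
  · decide
  · decide
  · decide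
  · exact ab_of_not_cube (by norm_num) (by rw [hN]; norm_num)
  · intro p hp; exact absurd hp (by simp)
  · intro r hr
    obtain rfl := List.mem_singleton.1 hr
    exact solv_of_na (by norm_num) (by rw [hN]; norm_num) (na_m11 h)
  · intro a ha; exact absurd ha (by simp)
  · decide

end Cfsg.Agent.H241.NH
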