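import Cfsg.Agent.H241.PhanLift

/-!
# The kernel of a perfect central extension of `SU₄(3)` is a quotient of `3²` (helper241)
-/

set_option autoImplicit false

namespace Cfsg.Agent.H241.PhanBound

open Matrix Cfsg Cfsg.Agent.Phan Cfsg.Agent.Phan.ThreeModel Cfsg.Agent.Phan.ThreeRel
open Cfsg.Agent.Phan.ThreeWord Cfsg.Agent.Phan.ThreeNine
open Cfsg.Agent.ChevalleyStructure.NineField
open Cfsg.Agent.SporadicRecognition.CosetCert Cfsg.Agent.SporadicRecognition.CosetCertHyp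
open Cfsg.Agent.H51.Mult
open scoped commutatorElement

universe u v

theorem card_SU4 : Nat.card (SU 4 F9 3) = 13063680 := by
  have h := Cfsg.Agent.S0278.result (F := F9) (q := 3) hF9 4 (by norm_num)
  norm_num [Finset.prod_range_succ, Nat.even_iff] at h
  omega

instance finite_SU4 : Finite (SU 4 F9 3) := Nat.finite_of_card_ne_zero (by rw [card_SU4]; norm_num)

/-- the order of the group generated by a Phan system of rank four in which the words `w1`, `w2` are trivial -/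
theorem card_le {H : Type*} [Group H] {φ : ℕ → (SU 2 F9 3 →* H)} {g : ℕ → (SU 3 F9 3 →* H)} (h : System hF9 4 φ g)
    (h1 : ev (L φ 12) w1 = 1) (h2 : ev (L φ 12) w2 = 1) :
    Finite (D φ 0 3) ∧ Nat.card (D φ 0 3) ≤ 13063680 := by
  have hfin3 : Finite (SU 3 F9 3) := SUThree.finite_SU3
  have hr : Nat.card (g 1).range ≤ 6048 := by
    rw [← ThreeHom.card_SU3]
    exact Nat.card_le_card_of_surjective _ (g 1).rangeRestrict_surjective
  have hD2 : D φ 1 3 ≤ (g 1).range := by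
    rw [D, Subgroup.closure_le]
    rintro _ ⟨j, h1, h2, a, rfl⟩
    have hj : j = 1 ∨ j = 2 := by omega
    rcases hj with rfl | rfl
    · exact ⟨_, h.left 1 (by norm_num) a⟩
    · exact ⟨_, h.right 1 (by norm_num) a⟩
  have hfr : Finite (g 1).range := Finite.of_surjective _ (g 1).rangeRestrict_surjective
  obtain ⟨f2, c2⟩ := card_le_of_le hD2
  obtain ⟨f3, c3⟩ := step_torus (n := 4) (m := 3) (by norm_num) (by norm_num) h
  obtain ⟨f4, c4⟩ := ThreeCardThree.card_three h h1 h2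
  exact ⟨f4, by omega⟩

section

variable {L' : Type u} [Group L'] {π : L' →* SU 4 F9 3} {φ : ℕ → (SU 2 F9 3 →* L')} {g : ℕ → (SU 3 F9 3 →* L')}

/-- the lifts -/
theorem pi_phi (h : System hF9 4 φ g) (h0 : ∀ x, π (g 0 x) = emb hF9 0 (by omega : 0 + 3 ≤ 4) x)
    (h1 : ∀ x, π (g 1 x) = emb hF9 1 (by omega : 1 + 3 ≤ 4) x) {j : ℕ} (hj : j + 2 ≤ 4) (x : SU 2 F9 3) :
    π (φ j x) = emb hF9 j hj x := by
  have hj' : j = 0 ∨ j = 1 ∨ j = 2 := by omega
  rcases hj' with rfl | rfl | rfl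
  · rw [← h.left 0 (by norm_num), h0, emb_emb]
  · rw [← h.right 0 (by norm_num), h0, emb_emb]
  · rw [← h.right 1 (by norm_num), h1, emb_emb]

/-- the words `w1`, `w2` are in the kernel -/
theorem pi_ev (h : System hF9 4 φ g) (h0 : ∀ x, π (g 0 x) = emb hF9 0 (by omega : 0 + 3 ≤ 4) x)
    (h1 : ∀ x, π (g 1 x) = emb hF9 1 (by omega : 1 + 3 ≤ 4) x) {w : List ℕ}
    (hw : ev (L ThreeHom.E2 12) w = 1) : π (ev (L φ 12) w) = 1 := by
  apply emb_injective hF9 0 (by omega : 0 + 4 ≤ 5)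
  rw [map_one, ← hw]
  have e1 := ev_map ((emb hF9 0 (by omega : 0 + 4 ≤ 5)).comp π) (L φ 12) w
  rw [MonoidHom.comp_apply] at e1
  rw [e1]
  refine ev_congr fun y _ => ?_
  rw [MonoidHom.comp_apply, L, L]
  split
  · rename_i hy
    have hj : y / 4 + 2 ≤ 4 := by omega
    rw [pi_phi h h0 h1 hj, ThreeHom.E2_eq (by omega), emb_emb]
    exact emb_congr hF9 _ _ (by omega) _
  · rw [map_one, map_one]

theorem E2_w : ev (L ThreeHom.E2 12) w1 = 1 ∧ ev (L ThreeHom.E2 12) w2 = 1 := by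
  have hE0 : ThreeHom.Hz ThreeHom.E2 := by
    have := ThreeHom.hzE (k := 0) (by norm_num)
    simpa using this
  exact ev_w (restrict (by norm_num : 4 ≤ 5) ThreeHom.sysE) hE0

theorem x1_cube (h : System hF9 4 φ g) : ev (L φ 12) x1 ^ 3 = 1 := by
  have hL : ∀ z, z < 12 → L φ 12 z * L φ 12 (iv z) = 1 := fun z h => (L_iv φ (by norm_num) h).2
  have hrel : ∀ r, okr 4 12 r = true → ev (L φ 12) r = 1 := fun r hr =>
    ev_eq_one_of_okr h (by norm_num) (by norm_num) hr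
  have hb3 : L φ 12 2 ^ 3 = 1 := by
    have := hrel [2, 2, 2] (by decide +kernel)
    rwa [ev_cons, ev_cons, ev_cons, ev_nil, mul_one, ← mul_assoc, ← pow_two, ← pow_succ] at this
  have hf3 : L φ 12 10 ^ 3 = 1 := by
    have := hrel [10, 10, 10] (by decide +kernel)
    rwa [ev_cons, ev_cons, ev_cons, ev_nil, mul_one, ← mul_assoc, ← pow_two, ← pow_succ] at this
  have hbf : L φ 12 2 * L φ 12 10 = L φ 12 10 * L φ 12 2 := h.comm 0 2 (by norm_num) (by norm_num) _ _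
  have e : ev (L φ 12) x1 = (L φ 12 6)⁻¹ * (L φ 12 2 * L φ 12 10) * L φ 12 6 := by
    have e1 : L φ 12 7 = (L φ 12 6)⁻¹ := (inv_eq_of_mul_eq_one_right (hL 6 (by norm_num))).symm
    rw [x1, ev_cons, ev_cons, ev_cons, ev_cons, ev_nil, mul_one, e1]
    group
  rw [e]
  exact conj_cube hb3 hf3 hbf

theorem x2_cube (h : System hF9 4 φ g) : ev (L φ 12) x2 ^ 3 = 1 := by
  have hL : ∀ z, z < 12 → L φ 12 z * L φ 12 (iv z) = 1 := fun z h => (L_iv φ (by norm_num) h).2
  have hrel : ∀ r, okr 4 12 r = true → ev (L φ 12) r = 1 := fun r hr =>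
    ev_eq_one_of_okr h (by norm_num) (by norm_num) hr
  have hb3 : L φ 12 2 ^ 3 = 1 := by
    have := hrel [2, 2, 2] (by decide +kernel)
    rwa [ev_cons, ev_cons, ev_cons, ev_nil, mul_one, ← mul_assoc, ← pow_two, ← pow_succ] at this
  have hF3 : L φ 12 11 ^ 3 = 1 := by
    have := hrel [11, 11, 11] (by decide +kernel)
    rwa [ev_cons, ev_cons, ev_cons, ev_nil, mul_one, ← mul_assoc, ← pow_two, ← pow_succ] at this
  have hbF : L φ 12 2 * L φ 12 11 = L φ 12 11 * L φ 12 2 := h.comm 0 2 (by norm_num) (by norm_num) _ _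
  have e : ev (L φ 12) x2 = (L φ 12 4 * L φ 12 7 * L φ 12 2 * L φ 12 0)⁻¹ *
      (L φ 12 2 * L φ 12 11) * (L φ 12 4 * L φ 12 7 * L φ 12 2 * L φ 12 0) := by
    have e1 : L φ 12 1 = (L φ 12 0)⁻¹ := (inv_eq_of_mul_eq_one_right (hL 0 (by norm_num))).symm
    have e2 : L φ 12 3 = (L φ 12 2)⁻¹ := (inv_eq_of_mul_eq_one_right (hL 2 (by norm_num))).symm
    have e3 : L φ 12 7 = (L φ 12 6)⁻¹ := (inv_eq_of_mul_eq_one_right (hL 6 (by norm_num))).symm
    have e4 : L φ 12 5 = (L φ 12 4)⁻¹ := (inv_eq_of_mul_eq_one_right (hL 4 (by norm_num))).symm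
    rw [x2, ev_cons, ev_cons, ev_cons, ev_cons, ev_cons, ev_cons, ev_cons, ev_cons, ev_cons,
      ev_cons, ev_nil, mul_one, e1, e2, e3, e4]
    group
  rw [e]
  exact conj_cube hb3 hF3 hbF

/-- a central commutator word has cube one -/
theorem cw_cube {x y : List ℕ} (hx : ∀ z ∈ x, z < 12) (hy : ∀ z ∈ y, z < 12) (hx3 : ev (L φ 12) x ^ 3 = 1)
    (hc : ∀ a, ev (L φ 12) (cw x y) * a = a * ev (L φ 12) (cw x y)) : ev (L φ 12) (cw x y) ^ 3 = 1 :=
  cube_eq_one (ev_cw (by norm_num) hx hy) hx3 (hc _)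

/-- the generated subgroup is everything -/
theorem D_eq_top (hP : PCE π) (h : System hF9 4 φ g) (h0 : ∀ x, π (g 0 x) = emb hF9 0 (by omega : 0 + 3 ≤ 4) x)
    (h1 : ∀ x, π (g 1 x) = emb hF9 1 (by omega : 1 + 3 ≤ 4) x) : D φ 0 3 = ⊤ := by
  have hs : Function.Surjective (π.comp (D φ 0 3).subtype) := by
    rw [← MonoidHom.range_eq_top, eq_top_iff, ← closure_emb_eq_top hF9 le_rfl 2, Subgroup.closure_le]
    rintro _ ⟨j, hj, x, rfl⟩
    exact ⟨⟨φ j x, mem_D (Nat.zero_le _) (by omega) x⟩, pi_phi h h0 h1 hj x⟩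
  have h2 := H487.commutator_eq_map_of_central hP.cen hs
  rw [hP.perf] at h2
  rw [eq_top_iff, h2]
  rintro _ ⟨x, -, rfl⟩
  exact x.2

end

/-- **The kernel of a perfect central extension of `SU₄(3)`.** -/
theorem main {L' : Type u} [Group L'] [Finite L'] {π : L' →* SU 4 F9 3} (hP : PCE π) :
    ∃ a b : L', π a = 1 ∧ π b = 1 ∧ a ^ 3 = 1 ∧ b ^ 3 = 1 ∧ ∀ z, π z = 1 → ∃ i j : ℕ, z = a ^ i * b ^ j := by
  obtain ⟨φ, g, h, h0, h1⟩ := PhanLift.exists_system hP.surj hP.cen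
  have hw1 : π (ev (L φ 12) w1) = 1 := pi_ev h h0 h1 E2_w.1
  have hw2 : π (ev (L φ 12) w2) = 1 := pi_ev h h0 h1 E2_w.2
  have c1 := hP.comm hw1
  have c2 := hP.comm hw2
  have p1 : ev (L φ 12) w1 ^ 3 = 1 := cw_cube (lt_of_all (by decide +kernel)) (lt_of_all (by decide +kernel))
    (x1_cube h) c1
  have p2 : ev (L φ 12) w2 ^ 3 = 1 := cw_cube (lt_of_all (by decide +kernel)) (lt_of_all (by decide +kernel))
    (x2_cube h) c2
  set a := ev (L φ 12) w1 with ha
  set b := ev (L φ 12) w2 with hb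
  refine ⟨a, b, hw1, hw2, p1, p2, ?_⟩
  -- the quotient by `⟨a, b⟩`
  set N : Subgroup L' := Subgroup.closure {a, b} with hN
  have hNk : N ≤ π.ker := by
    rw [hN, Subgroup.closure_le]
    rintro z (rfl | hz)
    · exact hw1
    · rw [Set.mem_singleton_iff.1 hz]; exact hw2
  obtain ⟨Q, _, q, ρ, hq, hqk, hρ, hPρ⟩ := hP.quot hNk
  have hfQ : Finite Q := Finite.of_surjective q hq
  have hS : System hF9 4 (fun k => q.comp (φ k)) (fun k => q.comp (g k)) :=
    ⟨fun k hk x => congrArg q (h.left k hk x), fun k hk x => congrArg q (h.right k hk x),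
      fun i j hij hj x y => by
        show q (φ i x) * q (φ j y) = q (φ j y) * q (φ i x)
        rw [← map_mul, h.comm i j hij hj, map_mul]⟩
  have hev : ∀ w, ev (L (fun k => q.comp (φ k)) 12) w = q (ev (L φ 12) w) := by
    intro w
    rw [ev_map]
    refine ev_congr fun y _ => ?_
    rw [L, L]
    split
    · rfl
    · exact (map_one q).symm
  have hq1 : ev (L (fun k => q.comp (φ k)) 12) w1 = 1 := by
    rw [hev, ← ha, ← MonoidHom.mem_ker, hqk]
    exact Subgroup.subset_closure (by simp)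
  have hq2 : ev (L (fun k => q.comp (φ k)) 12) w2 = 1 := by
    rw [hev, ← hb, ← MonoidHom.mem_ker, hqk]
    exact Subgroup.subset_closure (by simp)
  obtain ⟨-, hle⟩ := card_le hS hq1 hq2
  have htop := D_eq_top hPρ hS (fun x => by
    show ρ (q (g 0 x)) = _
    rw [hρ, h0]) (fun x => by
    show ρ (q (g 1 x)) = _
    rw [hρ, h1])
  rw [htop, Subgroup.card_top] at hle
  have hbij : Function.Bijective ρ := by
    refine (Nat.bijective_iff_surjective_and_card ρ).2 ⟨hPρ.surj, ?_⟩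
    refine le_antisymm ?_ (Nat.card_le_card_of_surjective ρ hPρ.surj)
    rw [card_SU4]
    exact hle
  intro z hz
  have hzN : z ∈ N := by
    rw [← hqk, MonoidHom.mem_ker]
    apply hbij.1
    rw [hρ, hz, map_one]
  have hi1 : a⁻¹ = a ^ 2 := by rw [inv_eq_iff_mul_eq_one, ← pow_succ']; exact p1
  have hi2 : b⁻¹ = b ^ 2 := by rw [inv_eq_iff_mul_eq_one, ← pow_succ']; exact p2
  have hab : Commute a b := c1 b
  rw [hN] at hzN
  induction hzN using Subgroup.closure_induction with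
  | mem x hx =>
    rcases hx with rfl | hx
    · exact ⟨1, 0, by simp⟩
    · rw [Set.mem_singleton_iff.1 hx]; exact ⟨0, 1, by simp⟩
  | one => exact ⟨0, 0, by simp⟩
  | mul x y hx hy ihx ihy =>
    obtain ⟨i, j, rfl⟩ := ihx (hNk hx)
    obtain ⟨k, l, rfl⟩ := ihy (hNk hy)
    refine ⟨i + k, j + l, ?_⟩
    have h1 := (hab.pow_pow k j).eq
    calc a ^ i * b ^ j * (a ^ k * b ^ l) = a ^ i * (b ^ j * a ^ k) * b ^ l := by simp only [mul_assoc]
      _ = a ^ i * (a ^ k * b ^ j) * b ^ l := by rw [h1]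
      _ = a ^ (i + k) * b ^ (j + l) := by rw [pow_add, pow_add]; simp only [mul_assoc]
  | inv x hx ih =>
    obtain ⟨i, j, rfl⟩ := ih (hNk hx)
    refine ⟨2 * i, 2 * j, ?_⟩
    rw [_root_.mul_inv_rev, ← inv_pow, ← inv_pow, hi1, hi2, ← pow_mul, ← pow_mul]
    exact (hab.pow_pow _ _).symm.eq

end Cfsg.Agent.H241.PhanBound
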