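import Cfsg.Agent.H241.SUThree
import Cfsg.Agent.LieClassical.SUBasic

/-!
# Perfect central extensions of `SU₄(3)` contain a Phan system (helper241)

`exists_system` : for a central extension `π : L → SU 4 F9 3` there is a Phan system of rank four in `L` lifting the
standard one.
-/

set_option autoImplicit false

namespace Cfsg.Agent.H241.PhanLift

open Matrix Cfsg Cfsg.Agent.Phan Cfsg.Agent.Phan.ThreeModel Cfsg.Agent.Phan.ThreeRel
open Cfsg.Agent.ChevalleyStructure.NineField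
open Cfsg.Agent.SporadicRecognition.CosetCert Cfsg.Agent.SporadicRecognition.CosetCertHyp
open scoped commutatorElement

universe u v

/-! ### `SU₂(3)` -/

theorem rel_q8 : tt * (cc * tt * cc⁻¹) = cc * (cc * tt * cc⁻¹) * cc⁻¹ := by
  have h : ev lw [0, 2, 0, 3] = ev lw [2, 2, 0, 3, 3] := by
    apply mat_inj
    have e1 : mat (ev lw [0, 2, 0, 3]) = mat (lw 0) * (mat (lw 2) * (mat (lw 0) * (mat (lw 3) * 1))) := rfl
    have e2 : mat (ev lw [2, 2, 0, 3, 3]) =
        mat (lw 2) * (mat (lw 2) * (mat (lw 0) * (mat (lw 3) * (mat (lw 3) * 1)))) := rfl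
    rw [e1, e2]
    simp only [mat_lw]
    decide +kernel
  have h1 : tt * (cc * (tt * (cc⁻¹ * 1))) = cc * (cc * (tt * (cc⁻¹ * (cc⁻¹ * 1)))) := h
  simp only [mul_one] at h1
  simpa only [mul_assoc] using h1

theorem cc_cube : cc ^ 3 = 1 := by
  have h : ev lw [2, 2, 2] = ev lw [] := by
    apply mat_inj
    have e1 : mat (ev lw [2, 2, 2]) = mat (lw 2) * (mat (lw 2) * (mat (lw 2) * 1)) := rfl
    have e2 : mat (ev lw []) = (1 : Matrix (Fin 2) (Fin 2) F9) := rfl
    rw [e1, e2]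
    simp only [mat_lw]
    decide +kernel
  have h1 : cc * (cc * (cc * 1)) = 1 := h
  rw [mul_one] at h1
  rw [pow_succ, pow_two, mul_assoc]
  exact h1

/-- homomorphisms of `SU₂(3)` to the centre of a group -/
theorem hom_tt {A : Type*} [Group A] (θ : SU 2 F9 3 →* Subgroup.center A) : θ tt = 1 := by
  have hA : ∀ a b : Subgroup.center A, a * b = b * a :=
    fun a b => Subtype.ext (Subgroup.mem_center_iff.1 b.2 a)
  have h := congrArg θ rel_q8
  simp only [map_mul, map_inv] at h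
  have h1 : θ cc * θ tt * (θ cc)⁻¹ = θ tt := by rw [hA (θ cc), mul_inv_cancel_right]
  rw [h1, h1] at h
  exact mul_eq_left.1 h

theorem hom_cc {A : Type*} [Group A] (θ : SU 2 F9 3 →* A) : θ cc ^ 3 = 1 := by
  rw [← map_pow, cc_cube, map_one]

/-- to be in a subgroup it is enough to check `tt`, `cc` -/
theorem mem_of_gen (K : Subgroup (SU 2 F9 3)) (h1 : tt ∈ K) (h2 : cc ∈ K) (y : SU 2 F9 3) : y ∈ K := by
  have h : Subgroup.closure {tt, cc} ≤ K := by
    rw [Subgroup.closure_le]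
    rintro z (rfl | hz)
    · exact h1
    · rw [Set.mem_singleton_iff.1 hz]; exact h2
  rw [ThreeRel.closure_eq_top] at h
  exact h trivial

/-! ### Commutators with a fixed element -/

section comm

variable {L : Type u} [Group L] {D : Type v} [Group D]

/-- `d ↦ ⁅u, f d⁆` if the values are central -/
def commHom (f : D →* L) (u : L) (h : ∀ d, ⁅u, f d⁆ ∈ Subgroup.center L) : D →* Subgroup.center L where
  toFun d := ⟨⁅u, f d⁆, h d⟩
  map_one' := Subtype.ext (by simp)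
  map_mul' a b := by
    apply Subtype.ext
    show ⁅u, f (a * b)⁆ = ⁅u, f a⁆ * ⁅u, f b⁆
    have h1 := Subgroup.mem_center_iff.1 (h b) (f a)
    rw [map_mul]
    calc ⁅u, f a * f b⁆ = ⁅u, f a⁆ * (f a * ⁅u, f b⁆ * (f a)⁻¹) := by
          simp only [commutatorElement_def]; group
      _ = ⁅u, f a⁆ * ⁅u, f b⁆ := by rw [h1, mul_inv_cancel_right]

theorem commHom_coe (f : D →* L) (u : L) (h : ∀ d, ⁅u, f d⁆ ∈ Subgroup.center L) (d : D) :
    ((commHom f u h d : Subgroup.center L) : L) = ⁅u, f d⁆ := rfl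

end comm

/-! ### monomial matrices -/

section mono

variable {m n : ℕ}

theorem conj_ext {N : SU n F9 3} {e e' : Fin m → Fin n} (he : Function.Injective e) (he' : Function.Injective e')
    (h1 : mat N * inc F9 e = inc F9 e') (h2 : (inc F9 e')ᵀ * mat N = (inc F9 e)ᵀ) (g : SU m F9 3) :
    N * ext hF9 e he g = ext hF9 e' he' g * N := by
  apply mat_inj
  rw [mat_mul, mat_mul, mat_ext, mat_ext, extM, extM, Matrix.mul_add, Matrix.add_mul, Matrix.mul_one, Matrix.one_mul]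
  congr 1
  rw [← Matrix.mul_assoc, ← Matrix.mul_assoc, h1, Matrix.mul_assoc _ _ (mat N), h2]

end mono

/-- the rotation -/
def ww : SU 2 F9 3 := su2 hF9 0 1 (by decide +kernel)

def e03 : Fin 2 → Fin 4 := ![0, 3]

theorem e03_inj : Function.Injective e03 := by decide

/-- rotation in the coordinates 0, 3 -/
def NN : SU 4 F9 3 := ext hF9 e03 e03_inj ww

def e312 : Fin 3 → Fin 4 := ![3, 1, 2]

theorem e312_inj : Function.Injective e312 := by decide

theorem mat_NN : mat NN = extM e03 (mat ww) := rfl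

/-- coordinates 0, 1, 2 -/
abbrev s0 : Fin 3 → Fin 4 := sh 0 (by omega : 0 + 3 ≤ 4)

theorem NN_inc : mat NN * inc F9 s0 = inc F9 e312 := by decide +kernel

theorem NN_incT : (inc F9 e312)ᵀ * mat NN = (inc F9 s0)ᵀ := by decide +kernel

theorem NN_pow : NN ^ 4 = 1 := by
  have h : NN * (NN * (NN * NN)) = 1 := by
    apply mat_inj
    rw [mat_mul, mat_mul, mat_mul, mat_one]
    decide +kernel
  rw [pow_succ, pow_succ, pow_two, mul_assoc, mul_assoc]
  exact h

/-- the three-cycle -/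
def e201 : Fin 3 → Fin 3 := ![2, 0, 1]

theorem e201_inj : Function.Injective e201 := by decide

theorem conj_NN (x : SU 3 F9 3) :
    NN * emb hF9 0 (by omega : 0 + 3 ≤ 4) x = emb hF9 1 (by omega : 1 + 3 ≤ 4) (ext hF9 e201 e201_inj x) * NN := by
  rw [emb, emb, ext_comp, conj_ext (e := s0) (e' := e312) (sh_injective _ _) e312_inj NN_inc NN_incT]
  congr 1

theorem ext_e201 (y : SU 2 F9 3) :
    ext hF9 e201 e201_inj (emb hF9 1 (by omega : 1 + 2 ≤ 3) y) = emb hF9 0 (by omega : 0 + 2 ≤ 3) y := by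
  rw [emb, emb, ext_comp]
  exact ext_congr hF9 _ _ (by decide) y

/-- the element interchanging the coordinates `0, 1` and `2, 3` -/
def τ : Equiv.Perm (Fin 4) := Equiv.swap 0 2 * Equiv.swap 1 3

theorem sign_τ : Equiv.Perm.sign τ = 1 := by decide

def SS : SU 4 F9 3 := LieClassical.SUBasic.suPerm 3 τ sign_τ

abbrev a0 : Fin 2 → Fin 4 := sh 0 (by omega : 0 + 2 ≤ 4)
abbrev a2 : Fin 2 → Fin 4 := sh 2 (by omega : 2 + 2 ≤ 4)

theorem SS_02 : mat SS * inc F9 a0 = inc F9 a2 := by decide +kernel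
theorem SS_02T : (inc F9 a2)ᵀ * mat SS = (inc F9 a0)ᵀ := by decide +kernel
theorem SS_20 : mat SS * inc F9 a2 = inc F9 a0 := by decide +kernel
theorem SS_20T : (inc F9 a0)ᵀ * mat SS = (inc F9 a2)ᵀ := by decide +kernel

theorem conj_SS (x : SU 2 F9 3) :
    SS * emb hF9 0 (by omega : 0 + 2 ≤ 4) x = emb hF9 2 (by omega : 2 + 2 ≤ 4) x * SS :=
  conj_ext (e := a0) (e' := a2) (sh_injective _ _) (sh_injective _ _) SS_02 SS_02T x

theorem conj_SS' (x : SU 2 F9 3) :
    SS * emb hF9 2 (by omega : 2 + 2 ≤ 4) x = emb hF9 0 (by omega : 0 + 2 ≤ 4) x * SS :=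
  conj_ext (e := a2) (e' := a0) (sh_injective _ _) (sh_injective _ _) SS_20 SS_20T x

/-! ### the system -/

section system

variable {L : Type u} [Group L] {π : L →* SU 4 F9 3}

theorem comm_mem (hc : π.ker ≤ Subgroup.center L) {a b : L} (h : π a * π b = π b * π a) :
    ⁅a, b⁆ ∈ Subgroup.center L := by
  apply hc
  rw [MonoidHom.mem_ker, map_commutatorElement, commutatorElement_eq_one_iff_mul_comm]
  exact h

/-- **The Phan system in a central extension of `SU₄(3)`.** -/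
theorem exists_system (hs : Function.Surjective π) (hc : π.ker ≤ Subgroup.center L) :
    ∃ (φ : ℕ → (SU 2 F9 3 →* L)) (g : ℕ → (SU 3 F9 3 →* L)), System hF9 4 φ g ∧
      (∀ x, π (g 0 x) = emb hF9 0 (by omega : 0 + 3 ≤ 4) x) ∧
      (∀ x, π (g 1 x) = emb hF9 1 (by omega : 1 + 3 ≤ 4) x) := by
  obtain ⟨g0, h0⟩ := SUThree.exists_lift hs hc (emb hF9 0 (by omega : 0 + 3 ≤ 4))
  obtain ⟨g1, h1⟩ := SUThree.exists_lift hs hc (emb hF9 1 (by omega : 1 + 3 ≤ 4))
  obtain ⟨N, hN⟩ := hs NN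
  obtain ⟨S, hS⟩ := hs SS
  -- `g1` is a conjugate of `g0`
  have e1 : ∀ x, g1 (ext hF9 e201 e201_inj x) = N * g0 x * N⁻¹ := by
    intro x
    have h := SUThree.lift_unique (f := g1.comp (ext hF9 e201 e201_inj))
      (g := (MulAut.conj N).toMonoidHom.comp g0) hc (fun x => by
        show π (g1 (ext hF9 e201 e201_inj x)) = π (N * g0 x * N⁻¹)
        rw [h1, map_mul, map_mul, map_inv, hN, h0, conj_NN, mul_inv_cancel_right])
    exact DFunLike.congr_fun h x
  have e2 : ∀ y : SU 2 F9 3, g1 (emb hF9 0 (by omega : 0 + 2 ≤ 3) y) = N * g0 (emb hF9 1 (by omega : 1 + 2 ≤ 3) y) * N⁻¹ := by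
    intro y
    rw [← ext_e201, e1]
  -- `N` centralises the middle `SU₂`
  have hNc : ∀ y : SU 2 F9 3, π N * π (g0 (emb hF9 1 (by omega : 1 + 2 ≤ 3) y)) =
      π (g0 (emb hF9 1 (by omega : 1 + 2 ≤ 3) y)) * π N := by
    intro y
    rw [hN, h0, conj_NN, ext_e201, emb_emb, emb_emb]
  have hθ : ∀ y : SU 2 F9 3, ⁅N, (g0.comp (emb hF9 1 (by omega : 1 + 2 ≤ 3))) y⁆ ∈ Subgroup.center L :=
    fun y => comm_mem hc (hNc y)
  have hθ1 : ∀ y : SU 2 F9 3, ⁅N, g0 (emb hF9 1 (by omega : 1 + 2 ≤ 3) y)⁆ = 1 := by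
    intro y
    have key : y ∈ (commHom _ N hθ).ker := by
      refine mem_of_gen _ ?_ ?_ y
      · exact hom_tt _
      · have a3 := hom_cc (commHom _ N hθ)
        have a4 : (commHom _ N hθ cc) ^ 4 = 1 := by
          apply Subtype.ext
          show ⁅N, _⁆ ^ 4 = 1
          exact H47.Kill.comm_pow hc (hNc cc) (by rw [hN, NN_pow])
        rw [MonoidHom.mem_ker]
        calc commHom _ N hθ cc = (commHom _ N hθ cc) ^ 4 * ((commHom _ N hθ cc) ^ 3)⁻¹ := by group
          _ = 1 := by rw [a3, a4, inv_one, mul_one]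
    exact congrArg Subtype.val (MonoidHom.mem_ker.1 key)
  have e3 : ∀ y : SU 2 F9 3, g1 (emb hF9 0 (by omega : 0 + 2 ≤ 3) y) = g0 (emb hF9 1 (by omega : 1 + 2 ≤ 3) y) := by
    intro y
    rw [e2, mul_inv_eq_iff_eq_mul]
    exact commutatorElement_eq_one_iff_mul_comm.1 (hθ1 y)
  -- the commuting `SU₂`s
  set p0 : SU 2 F9 3 →* L := g0.comp (emb hF9 0 (by omega : 0 + 2 ≤ 3)) with hp0
  set p2 : SU 2 F9 3 →* L := g1.comp (emb hF9 1 (by omega : 1 + 2 ≤ 3)) with hp2
  have q0 : ∀ x, π (p0 x) = emb hF9 0 (by omega : 0 + 2 ≤ 4) x := by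
    intro x
    show π (g0 _) = _
    rw [h0, emb_emb]
  have q2 : ∀ x, π (p2 x) = emb hF9 2 (by omega : 2 + 2 ≤ 4) x := by
    intro x
    show π (g1 _) = _
    rw [h1, emb_emb]
  have hπ : ∀ x y, π (p0 x) * π (p2 y) = π (p2 y) * π (p0 x) := by
    intro x y
    rw [q0, q2]
    exact emb_comm hF9 _ _ (Or.inl (by omega)) x y
  have hcc : ⁅p0 cc, p2 cc⁆ = 1 := by
    set z := ⁅p0 cc, p2 cc⁆ with hz
    have hzc : z ∈ Subgroup.center L := comm_mem hc (hπ cc cc)
    obtain ⟨k, hk, hk'⟩ : ∃ k, π k = 1 ∧ S * p0 cc * S⁻¹ = p2 cc * k := by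
      apply H47.Kill.exists_eq_mul
      rw [map_mul, map_mul, map_inv, hS, q0, q2, conj_SS, mul_inv_cancel_right]
    obtain ⟨l, hl, hl'⟩ : ∃ k, π k = 1 ∧ S * p2 cc * S⁻¹ = p0 cc * k := by
      apply H47.Kill.exists_eq_mul
      rw [map_mul, map_mul, map_inv, hS, q0, q2, conj_SS', mul_inv_cancel_right]
    have hkc := Subgroup.mem_center_iff.1 (hc (MonoidHom.mem_ker.2 hk))
    have hlc := Subgroup.mem_center_iff.1 (hc (MonoidHom.mem_ker.2 hl))
    have s1 : S * z * S⁻¹ = z := by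
      rw [Subgroup.mem_center_iff.1 hzc S, mul_inv_cancel_right]
    have s2 : S * z * S⁻¹ = ⁅p2 cc * k, p0 cc * l⁆ := by
      rw [← hk', ← hl', hz]; simp only [commutatorElement_def]; group
    have s3 : ⁅p2 cc * k, p0 cc * l⁆ = ⁅p2 cc, p0 cc⁆ := by
      have t1 : Commute k (p0 cc * l) := (hkc _).symm
      have t2 : Commute l (p2 cc) := (hlc _).symm
      calc ⁅p2 cc * k, p0 cc * l⁆ = p2 cc * (k * (p0 cc * l) * k⁻¹) * (p2 cc)⁻¹ * (p0 cc * l)⁻¹ := by
            simp only [commutatorElement_def]; group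
        _ = p2 cc * (p0 cc * l) * (p2 cc)⁻¹ * (p0 cc * l)⁻¹ := by rw [t1.eq, mul_inv_cancel_right]
        _ = p2 cc * p0 cc * (l * (p2 cc)⁻¹) * l⁻¹ * (p0 cc)⁻¹ := by group
        _ = ⁅p2 cc, p0 cc⁆ := by
            rw [t2.inv_right.eq]; simp only [commutatorElement_def]; group
    have s4 : z = z⁻¹ := by
      calc z = ⁅p2 cc, p0 cc⁆ := by rw [← s3, ← s2, s1]
        _ = z⁻¹ := by rw [hz, commutatorElement_inv]
    have s5 : z * z = 1 := by nth_rw 2 [s4]; exact mul_inv_cancel z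
    have s6 : z ^ 3 = 1 := H47.Kill.comm_pow hc (hπ cc cc) (by rw [← map_pow, ← map_pow, cc_cube, map_one, map_one])
    exact H47.Kill.eq_one_of_sq_of_odd (by decide) s5 s6
  have htt0 : ∀ y, ⁅p0 tt, p2 y⁆ = 1 := by
    intro y
    have h := hom_tt (commHom p0 (p2 y) (fun x => comm_mem hc (hπ x y).symm))
    have h2 : ⁅p2 y, p0 tt⁆ = 1 := congrArg Subtype.val h
    rw [← commutatorElement_inv, h2, inv_one]
  have htt2 : ∀ x, ⁅p0 x, p2 tt⁆ = 1 := by
    intro x
    have h := hom_tt (commHom p2 (p0 x) (fun y => comm_mem hc (hπ x y)))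
    exact congrArg Subtype.val h
  have hcc2 : ∀ y, ⁅p0 cc, p2 y⁆ = 1 := by
    intro y
    have key : y ∈ (commHom p2 (p0 cc) (fun y => comm_mem hc (hπ cc y))).ker := by
      refine mem_of_gen _ ?_ ?_ y
      · exact Subtype.ext (htt2 cc)
      · exact Subtype.ext hcc
    exact congrArg Subtype.val (MonoidHom.mem_ker.1 key)
  have hall : ∀ x y, ⁅p2 y, p0 x⁆ = 1 := by
    intro x y
    have key : x ∈ (commHom p0 (p2 y) (fun x => comm_mem hc (hπ x y).symm)).ker := by
      refine mem_of_gen _ ?_ ?_ x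
      · exact hom_tt _
      · refine Subtype.ext ?_
        show ⁅p2 y, p0 cc⁆ = 1
        rw [← commutatorElement_inv, hcc2, inv_one]
    exact congrArg Subtype.val (MonoidHom.mem_ker.1 key)
  let φ : ℕ → (SU 2 F9 3 →* L) := fun j =>
    if j = 0 then p0 else if j = 1 then g0.comp (emb hF9 1 (by omega : 1 + 2 ≤ 3)) else p2
  let g : ℕ → (SU 3 F9 3 →* L) := fun k => if k = 0 then g0 else g1
  refine ⟨φ, g, ⟨?_, ?_, ?_⟩, h0, h1⟩
  · intro k hk a
    have hk' : k = 0 ∨ k = 1 := by omega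
    rcases hk' with rfl | rfl
    · rfl
    · exact e3 a
  · intro k hk a
    have hk' : k = 0 ∨ k = 1 := by omega
    rcases hk' with rfl | rfl
    · rfl
    · rfl
  · intro i j hij hj a b
    obtain ⟨rfl, rfl⟩ : i = 0 ∧ j = 2 := by omega
    show p0 a * p2 b = p2 b * p0 a
    exact (commutatorElement_eq_one_iff_mul_comm.1 (hall a b)).symm

end system

end Cfsg.Agent.H241.PhanLift
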