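import Cfsg.Agent.H241.PhanBound
import Cfsg.Agent.SporadicStructure.PsuMatch

/-!
# The multiplier of `U₄(3)` is a quotient of `4 × 3 × 3` (helper241)
-/

set_option autoImplicit false

namespace Cfsg.Agent.H241.UFourUp

open Matrix Cfsg Cfsg.Agent.Phan Cfsg.Agent.Phan.ThreeModel
open Cfsg.Agent.ChevalleyStructure.NineField Cfsg.Agent.LieClassical.SUBasic
open Cfsg.Agent.H51.Mult Cfsg.Agent.H487
open scoped commutatorElement

universe u v

/-- the group `U₄(3)` -/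
abbrev PU : Type := PSU 4 F9 3

/-- the projection -/
abbrev κ : SU 4 F9 3 →* PU := QuotientGroup.mk' (Subgroup.center (SU 4 F9 3))

theorem perf_SU : commutator (SU 4 F9 3) = ⊤ :=
  LieClassical.HermPerfect.commutator_SU_eq_top (F := F9) (q := 3) hF9 (n := 4) (by norm_num) (by norm_num)

theorem perf_PU : commutator PU = ⊤ :=
  KFacts.MulDef.commutator_top_of_surj κ (QuotientGroup.mk'_surjective _) perf_SU

theorem isPerfect_PU : Group.IsPerfect PU := ⟨perf_PU⟩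

instance : Finite (SU 4 F9 3) := PhanBound.finite_SU4

instance : Finite PU := Quotient.finite _

/-- the scalar `i` -/
def ζ : SU 4 F9 3 := suScalar 3 ⟨0, 1⟩ (by decide +kernel) (by decide +kernel)

theorem scalar_pow : ∀ c : F9, c ^ 4 = 1 → ∃ k : Fin 4, c = (⟨0, 1⟩ : F9) ^ (k : ℕ) := by decide +kernel

theorem ζ_pow (k : ℕ) : mat (ζ ^ k) = Matrix.diagonal (fun _ => (⟨0, 1⟩ : F9) ^ k) := by
  induction k with
  | zero => rw [pow_zero, mat_one]; simp
  | succ k ih =>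
    rw [pow_succ, mat_mul, ih]
    show Matrix.diagonal _ * Matrix.diagonal (fun _ => (⟨0, 1⟩ : F9)) = _
    rw [Matrix.diagonal_mul_diagonal]
    congr 1

theorem mem_center {x : SU 4 F9 3} (hx : x ∈ Subgroup.center (SU 4 F9 3)) : ∃ k : ℕ, x = ζ ^ k := by
  obtain ⟨c, hcn, -, rfl⟩ := (mem_center_SU_iff hF9 (by norm_num) x).1 hx
  obtain ⟨k, rfl⟩ := scalar_pow c hcn
  refine ⟨k, mat_inj ?_⟩
  rw [ζ_pow]
  rfl

theorem ζ_four : ζ ^ 4 = 1 := by
  apply mat_inj
  rw [ζ_pow, mat_one, show (⟨0, 1⟩ : F9) ^ 4 = 1 by decide +kernel]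
  exact Matrix.diagonal_one

theorem κ_ζ : κ ζ = 1 := (QuotientGroup.eq_one_iff _).2 (suScalar_mem_center _ _ _ _)

/-- generators of the multiplier -/
theorem gens : ∃ g a b : (prU PU).ker, g ^ 4 = 1 ∧ a ^ 3 = 1 ∧ b ^ 3 = 1 ∧
    ∀ z, ∃ i j k : ℕ, z = g ^ i * a ^ j * b ^ k := by
  have hκ : κ.ker ≤ Subgroup.center (SU 4 F9 3) := by rw [QuotientGroup.ker_mk']
  obtain ⟨η, hη⟩ := exists_prU_lift PU (MonoidHom.id PU) (QuotientGroup.mk'_surjective _ : Function.Surjective κ) hκ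
  have hη' : ∀ x, κ (η x) = prU PU x := fun x => DFunLike.congr_fun hη x
  have hs0 := prU_surjective isPerfect_PU
  have hs : Function.Surjective η := by
    have h1 := commutator_eq_map_of_central hκ (φ := η) (by rw [hη]; exact hs0)
    rw [perf_SU, (isPerfect_UU isPerfect_PU).commutator_eq_top, ← MonoidHom.range_eq_map] at h1
    exact MonoidHom.range_eq_top.1 h1.symm
  have hP : PCE η := ⟨hs, fun x hx => prU_ker_central PU (by
    rw [MonoidHom.mem_ker, ← hη', MonoidHom.mem_ker.1 hx, map_one]), (isPerfect_UU isPerfect_PU).commutator_eq_top⟩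
  obtain ⟨a, b, ha, hb, ha3, hb3, hab⟩ := PhanBound.main hP
  obtain ⟨g, hg⟩ := hs ζ
  have hmem : ∀ x, η x ∈ Subgroup.center (SU 4 F9 3) → x ∈ (prU PU).ker := by
    intro x hx
    rw [MonoidHom.mem_ker, ← hη']
    exact (QuotientGroup.eq_one_iff _).2 hx
  have hg1 : η (g ^ 9) = ζ := by
    rw [map_pow, hg, show 9 = 4 + 4 + 1 by norm_num, pow_add, pow_add, ζ_four, one_mul, one_mul, pow_one]
  have hg4 : (g ^ 9) ^ 4 = 1 := by
    obtain ⟨i, j, hij⟩ := hab (g ^ 4) (by rw [map_pow, hg, ζ_four])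
    have hc : Commute (a ^ i) (b ^ j) := (show Commute a b from hP.comm ha b).pow_pow _ _
    have : (g ^ 4) ^ 9 = 1 := by
      rw [hij, hc.mul_pow, ← pow_mul, ← pow_mul, show i * 9 = 3 * (i * 3) by ring, show j * 9 = 3 * (j * 3) by ring,
        pow_mul a, pow_mul b, ha3, hb3, one_pow, one_pow, one_mul]
    rw [← pow_mul] at this ⊢
    exact this
  refine ⟨⟨g ^ 9, hmem _ (by rw [hg1]; exact suScalar_mem_center _ _ _ _)⟩,
    ⟨a, hmem _ (by rw [ha]; exact one_mem _)⟩, ⟨b, hmem _ (by rw [hb]; exact one_mem _)⟩,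
    Subtype.ext hg4, Subtype.ext ha3, Subtype.ext hb3, ?_⟩
  rintro ⟨z, hz⟩
  have h1 : η z ∈ Subgroup.center (SU 4 F9 3) := by
    rw [← QuotientGroup.eq_one_iff]
    show κ (η z) = 1
    rw [hη']
    exact hz
  obtain ⟨i, hi⟩ := mem_center h1
  obtain ⟨j, k, hjk⟩ := hab (((g ^ 9) ^ i)⁻¹ * z) (by rw [map_mul, map_inv, map_pow, hg1, hi, inv_mul_cancel])
  refine ⟨i, j, k, Subtype.ext ?_⟩
  show z = (g ^ 9) ^ i * a ^ j * b ^ k
  rw [mul_assoc, ← hjk, mul_inv_cancel_left]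

/-- a homomorphism from `ZMod n` -/
theorem exists_hom {M : Type*} [CommGroup M] {n : ℕ} {g : M} (hg : g ^ n = 1) :
    ∃ f : Multiplicative (ZMod n) →* M, ∀ k : ℕ, f (Multiplicative.ofAdd (k : ZMod n)) = g ^ k := by
  let f : ℤ →+ Additive M := zmultiplesHom _ (Additive.ofMul g)
  have hf : f (n : ℤ) = 0 := by
    show (n : ℤ) • Additive.ofMul g = 0
    rw [natCast_zsmul, ← ofMul_pow, hg, ofMul_one]
  let f' : ZMod n →+ Additive M := ZMod.lift n ⟨f, hf⟩
  refine ⟨AddMonoidHom.toMultiplicativeLeft f', fun k => ?_⟩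
  show (f' (k : ZMod n)).toMul = g ^ k
  have h4 : f' ((k : ℤ) : ZMod n) = (k : ℤ) • Additive.ofMul g := ZMod.lift_coe n ⟨f, hf⟩ k
  rw [Int.cast_natCast] at h4
  rw [h4, natCast_zsmul, ← ofMul_pow]
  rfl

theorem surj_of_gens {M : Type*} [CommGroup M] {g a b : M} (hg : g ^ 4 = 1) (ha : a ^ 3 = 1) (hb : b ^ 3 = 1)
    (h : ∀ z, ∃ i j k : ℕ, z = g ^ i * a ^ j * b ^ k) :
    ∃ f : Multiplicative (ZMod 4 × ZMod 3 × ZMod 3) →* M, Function.Surjective f := by
  obtain ⟨f1, h1⟩ := exists_hom hg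
  obtain ⟨f2, h2⟩ := exists_hom ha
  obtain ⟨f3, h3⟩ := exists_hom hb
  let p1 : Multiplicative (ZMod 4 × ZMod 3 × ZMod 3) →* Multiplicative (ZMod 4) :=
    AddMonoidHom.toMultiplicative (AddMonoidHom.fst (ZMod 4) (ZMod 3 × ZMod 3))
  let p2 : Multiplicative (ZMod 4 × ZMod 3 × ZMod 3) →* Multiplicative (ZMod 3) :=
    AddMonoidHom.toMultiplicative
      ((AddMonoidHom.fst (ZMod 3) (ZMod 3)).comp (AddMonoidHom.snd (ZMod 4) (ZMod 3 × ZMod 3)))
  let p3 : Multiplicative (ZMod 4 × ZMod 3 × ZMod 3) →* Multiplicative (ZMod 3) :=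
    AddMonoidHom.toMultiplicative
      ((AddMonoidHom.snd (ZMod 3) (ZMod 3)).comp (AddMonoidHom.snd (ZMod 4) (ZMod 3 × ZMod 3)))
  refine ⟨(f1.comp p1) * (f2.comp p2) * (f3.comp p3), fun z => ?_⟩
  obtain ⟨i, j, k, rfl⟩ := h z
  refine ⟨Multiplicative.ofAdd ((i : ZMod 4), (j : ZMod 3), (k : ZMod 3)), ?_⟩
  show f1 (Multiplicative.ofAdd (i : ZMod 4)) * f2 (Multiplicative.ofAdd (j : ZMod 3)) *
    f3 (Multiplicative.ofAdd (k : ZMod 3)) = _
  rw [h1, h2, h3]

/-- **Upper bound.** -/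
theorem upper : ∃ f : Multiplicative (ZMod 4 × ZMod 3 × ZMod 3) →* MM PU, Function.Surjective f := by
  obtain ⟨e⟩ := nonempty_prU_ker PU
  obtain ⟨g, a, b, hg, ha, hb, h⟩ := gens
  refine surj_of_gens (g := e g) (a := e a) (b := e b) (by rw [← map_pow, hg, map_one]) (by rw [← map_pow, ha, map_one])
    (by rw [← map_pow, hb, map_one]) fun z => ?_
  obtain ⟨i, j, k, hz⟩ := h (e.symm z)
  refine ⟨i, j, k, ?_⟩
  rw [← map_pow, ← map_pow, ← map_pow, ← map_mul, ← map_mul, ← hz, e.apply_symm_apply]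

/-- a central extension gives a divisor of the order of the multiplier -/
theorem dvd_of_ext {D : Type u} [Group D] {τ : D →* PU} (hs : Function.Surjective τ)
    (hc : τ.ker ≤ Subgroup.center D) (hk : τ.ker ≤ commutator D) : Nat.card τ.ker ∣ Nat.card (MM PU) := by
  obtain ⟨f, hf⟩ := (isVersal_pr PU).exists_surj_ker (τ := τ) ⟨hs, hc, hk⟩
  exact Subgroup.card_dvd_of_surjective f hf

theorem four_dvd : 4 ∣ Nat.card (MM PU) := by
  have h := dvd_of_ext (τ := κ) (QuotientGroup.mk'_surjective _) (by rw [QuotientGroup.ker_mk'])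
    (by rw [perf_SU]; exact le_top)
  have h1 : Nat.card κ.ker = 4 := by
    rw [QuotientGroup.ker_mk', Cfsg.Agent.S0280.card_center hF9 4 (by norm_num)]
    decide
  rwa [h1] at h

/-- **The multiplier of `U₄(3)`, given a threefold-threefold cover.** -/
theorem hasSchur_of (h9 : 9 ∣ Nat.card (MM PU)) :
    Cfsg.HasSchurMultiplier PU (Multiplicative (ZMod 4 × ZMod 3 × ZMod 3)) := by
  obtain ⟨f, hf⟩ := upper
  have h36 : 36 ∣ Nat.card (MM PU) := by
    have := Nat.Coprime.mul_dvd_of_dvd_of_dvd (by decide : Nat.Coprime 4 9) four_dvd h9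
    exact this
  have hA : Nat.card (Multiplicative (ZMod 4 × ZMod 3 × ZMod 3)) = 36 := by
    rw [Nat.card_congr (Multiplicative.toAdd (α := ZMod 4 × ZMod 3 × ZMod 3)), Nat.card_prod, Nat.card_prod,
      Nat.card_zmod, Nat.card_zmod]
  have hfin : Finite (Multiplicative (ZMod 4 × ZMod 3 × ZMod 3)) := Nat.finite_of_card_ne_zero (by rw [hA]; norm_num)
  have hle := Nat.card_le_card_of_surjective f hf
  rw [hA] at hle
  have hpos : 0 < Nat.card (MM PU) := Nat.card_pos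
  have hge := Nat.le_of_dvd hpos h36
  have hbij : Function.Bijective f := (Nat.bijective_iff_surjective_and_card f).2 ⟨hf, by rw [hA]; omega⟩
  exact hasSchurMultiplier_iff.2 ⟨MulEquiv.ofBijective f hbij⟩

end Cfsg.Agent.H241.UFourUp
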